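import Groth.Agent.Lib.AdicSmooth3.Lift
import Groth.Agent.Lib.Compl.Complete
import Groth.Agent.S4537
import Mathlib.Algebra.TrivSqZeroExt.Basic
import Mathlib.RingTheory.Derivation.Basic
import Mathlib.RingTheory.AdicCompletion.Completeness
import Mathlib.RingTheory.Filtration

/-! # Lifting derivations along quotients of formally smooth complete algebras -/

set_option autoImplicit false
set_option linter.style.haveILetI false
set_option backward.isDefEq.respectTransparency false
universe u

namespace Groth.Agent.NagJac3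

open IsLocalRing TrivSqZeroExt

theorem isHausdorff_quotient {A C : Type u} [CommRing A] [IsLocalRing A] [IsNoetherianRing A]
    [IsAdicComplete (maximalIdeal A) A] [CommRing C] [Algebra A C] [Module.Finite A C] (J : Ideal C) :
    IsHausdorff (((maximalIdeal A).map (algebraMap A C)).map (Ideal.Quotient.mk J)) (C ⧸ J) := by
  haveI : Module.Finite A (C ⧸ J) :=
    Module.Finite.of_surjective (Ideal.Quotient.mkₐ A J).toLinearMap Ideal.Quotient.mk_surjective
  haveI := Compl.isAdicComplete_of_finite (maximalIdeal A) (C ⧸ J)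
  rw [Ideal.map_map]
  exact IsHausdorff.map_algebraMap_iff.2 inferInstance

/-- A derivation into a quotient lifts. -/
theorem exists_derivation_lift {K A : Type u} [Field K] [CommRing A] [IsLocalRing A] [IsNoetherianRing A]
    [IsAdicComplete (maximalIdeal A) A] [Algebra K A] (h : CAlgX.IsAdicFormallySmooth K A (maximalIdeal A))
    (I : Ideal A) (d : Derivation ℤ K A) (δ : Derivation ℤ A (A ⧸ I))
    (hc : ∀ x, δ (algebraMap K A x) = Ideal.Quotient.mk I (d x)) :
    ∃ D : Derivation ℤ A A, (∀ x, D (algebraMap K A x) = d x) ∧ ∀ a, Ideal.Quotient.mk I (D a) = δ a := by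
  let ι : A →+* TrivSqZeroExt A A := TrivSqZeroExt.inlHom A A
  haveI : Module.Finite A (TrivSqZeroExt A A) := by
    refine Module.Finite.of_surjective (Fintype.linearCombination A ![(1 : (TrivSqZeroExt A A)), TrivSqZeroExt.inr 1]) fun x => ?_
    refine ⟨![x.fst, x.snd], ?_⟩
    rw [Fintype.linearCombination_apply, Fin.sum_univ_two]
    ext <;> simp
  haveI : IsNoetherianRing (TrivSqZeroExt A A) := isNoetherianRing_iff.2 (isNoetherian_of_tower A inferInstance)
  let φ : K →+* (TrivSqZeroExt A A) :=
    { toFun := fun x => inl (algebraMap K A x) + inr (d x)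
      map_one' := by ext <;> simp
      map_mul' := fun x y => by
        ext
        · simp
        · simp [d.leibniz, Algebra.smul_def]
          ring
      map_zero' := by ext <;> simp
      map_add' := fun x y => by
        ext <;> simp }
  letI algKC : Algebra K (TrivSqZeroExt A A) := φ.toAlgebra
  let J : Ideal (TrivSqZeroExt A A) :=
    { carrier := {x | x.fst = 0 ∧ x.snd ∈ I}
      add_mem' := fun {x y} hx hy => ⟨by simp [hx.1, hy.1], by simpa using add_mem hx.2 hy.2⟩
      zero_mem' := ⟨by simp, by simp⟩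
      smul_mem' := fun c x hx => ⟨by simp [hx.1], by
        simpa [hx.1] using Ideal.mul_mem_left I c.fst hx.2⟩ }
  have hJ2 : J ^ 2 = ⊥ := by
    rw [eq_bot_iff, pow_two, Ideal.mul_le]
    intro x hx y hy
    rw [Ideal.mem_bot]
    ext <;> simp [hx.1, hy.1]
  choose s hs using fun a => Ideal.Quotient.mk_surjective (δ a)
  have hmk : ∀ {x y : (TrivSqZeroExt A A)}, x.fst = y.fst → Ideal.Quotient.mk I x.snd = Ideal.Quotient.mk I y.snd →
      Ideal.Quotient.mk J x = Ideal.Quotient.mk J y := fun {x y} h1 h2 =>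
    Ideal.Quotient.eq.2 ⟨by simp [h1], by simpa using Ideal.Quotient.eq.1 h2⟩
  let u₀ : A → (TrivSqZeroExt A A) ⧸ J := fun a => Ideal.Quotient.mk J (inl a + inr (s a))
  let u : A →ₐ[K] (TrivSqZeroExt A A) ⧸ J :=
    { toFun := u₀
      map_one' := by
        rw [← map_one (Ideal.Quotient.mk J)]
        exact hmk (by simp) (by simp [hs])
      map_mul' := fun a b => by
        rw [← map_mul (Ideal.Quotient.mk J)]
        refine hmk (by simp) ?_
        simp [hs, Algebra.smul_def]
        ring
      map_zero' := by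
        rw [← map_zero (Ideal.Quotient.mk J)]
        exact hmk (by simp) (by simp [hs])
      map_add' := fun a b => by
        rw [← map_add (Ideal.Quotient.mk J)]
        exact hmk (by simp) (by simp [hs])
      commutes' := fun x => hmk (y := φ x) (by simp [φ]) (by simp [φ, hs, hc]) }
  let 𝔠 : Ideal (TrivSqZeroExt A A) := (maximalIdeal A).map (algebraMap A (TrivSqZeroExt A A))
  haveI : IsAdicComplete (maximalIdeal A) (TrivSqZeroExt A A) := Compl.isAdicComplete_of_finite (maximalIdeal A) (TrivSqZeroExt A A)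
  haveI : IsAdicComplete 𝔠 (TrivSqZeroExt A A) :=
    (IsAdicComplete.map_algebraMap_iff (maximalIdeal A) (TrivSqZeroExt A A)).2 inferInstance
  have hH := isHausdorff_quotient (A := A) J
  have hinr : ∀ y ∈ maximalIdeal A, (inr y : (TrivSqZeroExt A A)) ∈ 𝔠 := fun y hy => by
    have : (inr y : (TrivSqZeroExt A A)) = algebraMap A (TrivSqZeroExt A A) y * inr 1 := by
      ext <;> simp [TrivSqZeroExt.algebraMap_eq_inl]
    rw [this]
    exact Ideal.mul_mem_right _ _ (Ideal.mem_map_of_mem (algebraMap A (TrivSqZeroExt A A)) hy)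
  have hu : ∃ k : ℕ, (maximalIdeal A ^ k).map u.toRingHom ≤ 𝔠.map (Ideal.Quotient.mk J) := by
    refine ⟨2, Ideal.map_le_iff_le_comap.2 fun a ha => ?_⟩
    have hδ : δ a ∈ (maximalIdeal A).map (Ideal.Quotient.mk I) := by
      rw [pow_two] at ha
      refine Submodule.mul_induction_on ha (fun x hx y hy => ?_) fun x y hx hy => by rw [map_add]; exact add_mem hx hy
      rw [Derivation.leibniz, Algebra.smul_def, Algebra.smul_def, Ideal.Quotient.algebraMap_eq]
      exact add_mem (Ideal.mul_mem_right _ _ (Ideal.mem_map_of_mem _ hx))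
        (Ideal.mul_mem_right _ _ (Ideal.mem_map_of_mem _ hy))
    rw [← hs, Ideal.mem_quotient_iff_mem_sup, Submodule.mem_sup] at hδ
    obtain ⟨y, hy, i, hi, hyi⟩ := hδ
    refine (show u₀ a ∈ 𝔠.map (Ideal.Quotient.mk J) → u.toRingHom a ∈ 𝔠.map (Ideal.Quotient.mk J) from id) ?_
    have h2 : u₀ a = Ideal.Quotient.mk J (inl a + inr y) := hmk (by simp) (by
      simp [← hyi, Ideal.Quotient.eq_zero_iff_mem.2 hi])
    rw [h2]
    exact Ideal.mem_map_of_mem _ (add_mem (Ideal.mem_map_of_mem (algebraMap A (TrivSqZeroExt A A)) (Ideal.pow_le_self two_ne_zero ha)) (hinr y hy))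
  obtain ⟨v, -, hv⟩ := AdicSmooth3.exists_lift (𝔞 := (⊥ : Ideal K)) (𝔟 := maximalIdeal A) (𝔠 := 𝔠)
    ((Groth.Agent.S4537.result _).1 h) ⟨1, by simp⟩ J ⟨2, by rw [hJ2]; exact bot_le⟩ u hu
  have hv1 : ∀ a, (v a).fst = a ∧ Ideal.Quotient.mk I (v a).snd = δ a := fun a => by
    have h3 := Ideal.Quotient.eq.1 (AlgHom.congr_fun hv a : Ideal.Quotient.mk J (v a) = u₀ a)
    refine ⟨by simpa [sub_eq_zero] using h3.1, ?_⟩
    rw [← hs a]
    exact Ideal.Quotient.eq.2 (by simpa using h3.2)
  refine ⟨Derivation.mk' (AddMonoidHom.mk' (fun a => (v a).snd) fun a b => by simp).toIntLinearMap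
    (fun a b => ?_), fun x => ?_, fun a => (hv1 a).2⟩
  · show (v (a * b)).snd = a • (v b).snd + b • (v a).snd
    rw [map_mul, TrivSqZeroExt.snd_mul, (hv1 a).1, (hv1 b).1]
    simp [mul_comm]
  · show (v (algebraMap K A x)).snd = d x
    rw [v.commutes]
    simp [RingHom.algebraMap_toAlgebra, φ]

end Groth.Agent.NagJac3
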