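import Groth.Agent.Lib.PBasis.Field
import Groth.Agent.Lib.PBasis.Over
import Groth.Agent.S2467
import Groth.Agent.S2468
import Mathlib.RingTheory.Derivation.Basic
import Mathlib.LinearAlgebra.Dual.Lemmas

/-! # Derivations detecting nilpotents in a square-zero extension of a field -/

set_option autoImplicit false
set_option linter.style.haveILetI false
universe u

namespace Groth.Agent.NagJac3

open EGA41

variable {R L : Type u} [CommRing R] [Field L] [Algebra R L]
  (hπ : Function.Surjective (algebraMap R L))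
  (hsq : ∀ a b : R, algebraMap R L a = 0 → algebraMap R L b = 0 → a * b = 0)

include hπ hsq in
/-- A section of the residue map gives a derivation detecting a nilpotent element. -/
theorem exists_derivation_of_section (s : L →+* R) (hs : ∀ a, algebraMap R L (s a) = a) {x : R}
    (hx : algebraMap R L x = 0) (hx0 : x ≠ 0) :
    ∃ δ : Derivation ℤ R L, (∀ a, δ (s a) = 0) ∧ δ x ≠ 0 := by
  letI : Algebra L R := s.toAlgebra
  have h1 : x ∉ Submodule.span L {(1 : R)} := fun h => by
    obtain ⟨a, ha⟩ := Submodule.mem_span_singleton.1 h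
    have h2 : s a = x := by rw [← ha, Algebra.smul_def, mul_one]; rfl
    have h3 := hs a
    rw [h2, hx] at h3
    exact hx0 (by rw [← h2, ← h3, map_zero])
  obtain ⟨ℓ, hℓx, hℓ1⟩ := Submodule.exists_dual_map_eq_bot_of_notMem h1 inferInstance
  have hℓs : ∀ a, ℓ (s a) = 0 := fun a => by
    have : s a = a • (1 : R) := by rw [Algebra.smul_def, mul_one]; rfl
    rw [this]
    exact (Submodule.mem_bot L).1 (hℓ1 ▸ Submodule.mem_map_of_mem (Submodule.smul_mem _ a (Submodule.subset_span rfl)))
  have hℓmul : ∀ (a : L) (r : R), ℓ (s a * r) = a * ℓ r := fun a r => by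
    have : s a * r = a • r := (Algebra.smul_def a r).symm
    rw [this, map_smul, smul_eq_mul]
  refine ⟨Derivation.mk' ℓ.toAddMonoidHom.toIntLinearMap fun r r' => ?_, hℓs, hℓx⟩
  obtain ⟨y, hy, hye⟩ : ∃ y, algebraMap R L y = 0 ∧ r = s (algebraMap R L r) + y :=
    ⟨r - s (algebraMap R L r), by rw [map_sub, hs, sub_self], by ring⟩
  obtain ⟨y', hy', hye'⟩ : ∃ y', algebraMap R L y' = 0 ∧ r' = s (algebraMap R L r') + y' :=
    ⟨r' - s (algebraMap R L r'), by rw [map_sub, hs, sub_self], by ring⟩
  generalize algebraMap R L r = a at hye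
  generalize algebraMap R L r' = a' at hye'
  subst hye hye'
  show ℓ ((s a + y) * (s a' + y')) = (s a + y) • ℓ (s a' + y') + (s a' + y') • ℓ (s a + y)
  have hmul : (s a + y) * (s a' + y') = s (a * a') + s a * y' + s a' * y := by
    rw [map_mul, add_mul, mul_add, mul_add, hsq y y' hy hy']; ring
  simp only [hmul, map_add, hℓs, hℓmul, Algebra.smul_def, hs, hy, hy']
  ring

include hπ hsq in
/-- A subring of separated `p`-th powers detects nilpotent elements. -/
theorem exists_derivation_detect (p : ℕ) [Fact p.Prime] [CharP L p] [CharP R p] (W : Subring R)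
    (hW : ∀ x ∈ W, algebraMap R L x = 0 → x = 0) (hpow : ∀ r, r ^ p ∈ W) {x : R}
    (hx : algebraMap R L x = 0) (hx0 : x ≠ 0) :
    ∃ δ : Derivation ℤ R L, (∀ w ∈ W, δ w = 0) ∧ δ x ≠ 0 := by
  let Wb : Subfield L :=
    { W.map (algebraMap R L) with
      inv_mem' := by
        rintro _ ⟨w, hw, rfl⟩
        rcases eq_or_ne (algebraMap R L w) 0 with h | h
        · rw [h, inv_zero]; exact zero_mem (W.map (algebraMap R L))
        obtain ⟨r, hr⟩ := hπ (algebraMap R L w)⁻¹
        refine ⟨w ^ (p - 1) * r ^ p, mul_mem (pow_mem hw _) (hpow r), ?_⟩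
        rw [map_mul, map_pow, map_pow, hr, inv_pow]
        field_simp
        rw [← pow_succ, Nat.sub_add_cancel (Fact.out : p.Prime).one_le] }
  choose σ hσW hσ using fun c : Wb => c.2
  have huniq : ∀ c : Wb, ∀ w ∈ W, algebraMap R L w = c → σ c = w := fun c w hw h =>
    sub_eq_zero.1 (hW _ (sub_mem (hσW c) hw) (by rw [map_sub, hσ, h, sub_self]))
  let σh : Wb →+* R :=
    { toFun := σ
      map_one' := huniq _ 1 (one_mem _) (map_one _)
      map_mul' := fun a b => huniq _ _ (mul_mem (hσW a) (hσW b)) (by rw [map_mul, hσ, hσ]; rfl)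
      map_zero' := huniq _ 0 (zero_mem _) (map_zero _)
      map_add' := fun a b => huniq _ _ (add_mem (hσW a) (hσW b)) (by rw [map_add, hσ, hσ]; rfl) }
  letI : Algebra Wb R := σh.toAlgebra
  have hpowL : ∀ c : L, c ^ p ∈ Set.range (algebraMap Wb L) := fun c => by
    obtain ⟨r, rfl⟩ := hπ c
    exact ⟨⟨_, ⟨r ^ p, hpow r, map_pow _ _ _⟩⟩, rfl⟩
  obtain ⟨B, -, -, hB⟩ := Groth.Agent.S2467.result p (k := Wb) (K := L) Set.univ ∅ (Set.empty_subset _)
    ((Groth.Agent.S2468.result p _).2.1.2 (by
      rw [show Set.range (fun i : (Set.univ : Set L) => KaehlerDifferential.D Wb L i) =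
        Set.range (KaehlerDifferential.D Wb L) from
          Set.ext fun _ => ⟨fun ⟨i, h⟩ => ⟨i, h⟩, fun ⟨i, h⟩ => ⟨⟨i, trivial⟩, h⟩⟩]
      exact KaehlerDifferential.span_range_derivation _ _))
    ((Groth.Agent.S2468.result p _).1.2 linearIndependent_empty_type)
  choose lift hlift using id hπ
  obtain ⟨φ, hφ, -⟩ := PBasis.existsUnique_algHom p (A := Wb) (B := L) (C := R) Subtype.val_injective hpowL
    (Subtype.val : B → L) hB (fun i => lift i) fun i a ha => (huniq a _ (hpow _) (by
      rw [map_pow, hlift]; exact ha.symm)).symm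
  have hsec : ∀ a, algebraMap R L (φ a) = a := by
    let πW : R →ₐ[Wb] L := { algebraMap R L with commutes' := fun c => hσ c }
    obtain ⟨ψ, -, hψ⟩ := PBasis.existsUnique_algHom p (A := Wb) (B := L) (C := L) Subtype.val_injective hpowL
      (Subtype.val : B → L) hB (fun i => (i : L)) fun i a ha => ha.symm
    have h1 := hψ (πW.comp φ) fun i => by
      show algebraMap R L (φ i) = i
      rw [hφ, hlift]
    have h2 := hψ (AlgHom.id Wb L) fun i => rfl
    exact fun a => AlgHom.congr_fun (h1.trans h2.symm) a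
  obtain ⟨δ, hδ, hδx⟩ := exists_derivation_of_section (fun c => ⟨lift c, hlift c⟩) hsq φ.toRingHom hsec hx hx0
  refine ⟨δ, fun w hw => ?_, hδx⟩
  have h3 : φ (algebraMap R L w) = w := (φ.commutes ⟨algebraMap R L w, ⟨w, hw, rfl⟩⟩).trans (huniq _ w hw rfl)
  rw [← h3]
  exact hδ _

end Groth.Agent.NagJac3
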