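import Groth.Agent.Lib.NagJac3.Stab
import Groth.Agent.Lib.NagJac3.Detect
import Mathlib.RingTheory.Derivation.MapCoeffs
import Mathlib.RingTheory.Smooth.Field

/-! # Derivations over a finite stage of a family of subfields -/

set_option autoImplicit false
set_option linter.style.haveILetI false
universe u

namespace Groth.Agent.NagJac3

/-- The constants of a derivation restricted along a ring map from a field form a subfield. -/
def constSubfield {E R L : Type u} [Field E] [CommRing R] [AddCommGroup L] [Module R L]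
    (f : E →+* R) (d : Derivation ℤ R L) : Subfield E where
  carrier := {e | d (f e) = 0}
  mul_mem' := fun {a b} (ha : d (f a) = 0) (hb : d (f b) = 0) => by
    show d (f (a * b)) = 0
    rw [map_mul, d.leibniz, ha, hb, smul_zero, smul_zero, add_zero]
  one_mem' := by
    show d (f 1) = 0
    rw [map_one, d.map_one_eq_zero]
  add_mem' := fun {a b} (ha : d (f a) = 0) (hb : d (f b) = 0) => by
    show d (f (a + b)) = 0
    rw [map_add, map_add, ha, hb, add_zero]
  zero_mem' := by
    show d (f 0) = 0
    rw [map_zero, map_zero]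
  neg_mem' := fun {a} (ha : d (f a) = 0) => by
    show d (f (-a)) = 0
    rw [map_neg, map_neg, ha, neg_zero]
  inv_mem' := fun a (ha : d (f a) = 0) => by
    show d (f a⁻¹) = 0
    rcases eq_or_ne a 0 with h | h
    · rw [h, inv_zero, map_zero, map_zero]
    have h1 := d.leibniz (f a) (f a⁻¹)
    rw [← map_mul, mul_inv_cancel₀ h, map_one, d.map_one_eq_zero, ha, smul_zero, add_zero] at h1
    have h2 := congrArg (f a⁻¹ • ·) h1
    simp only [smul_zero, smul_smul, ← map_mul, inv_mul_cancel₀ h, map_one, one_smul] at h2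
    exact h2.symm

theorem mem_constSubfield {E R L : Type u} [Field E] [CommRing R] [AddCommGroup L] [Module R L]
    {f : E →+* R} {d : Derivation ℤ R L} {e : E} : e ∈ constSubfield f d ↔ d (f e) = 0 := Iff.rfl

/-- Fractions of elements of a finitely spanned subring lie in the span. -/
theorem span_eq_top_of_fractions {A E R : Type u} [CommRing A] [Field E] [CommRing R] [Algebra E R] (α : A →+* R)
    {M : ℕ} (γ : Fin M → A) (hγ : ∀ a, α a ∈ Submodule.span E (Set.range (α ∘ γ)))
    (hfrac : ∀ r : R, ∃ a s, IsUnit (α s) ∧ r * α s = α a) : Submodule.span E (Set.range (α ∘ γ)) = ⊤ := by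
  set V := Submodule.span E (Set.range (α ∘ γ))
  refine eq_top_iff.2 fun r _ => ?_
  obtain ⟨a, s, hs, hr⟩ := hfrac r
  have hmul : ∀ v ∈ V, α s * v ∈ V := fun v hv => by
    induction hv using Submodule.span_induction with
    | mem z hz =>
      obtain ⟨l, rfl⟩ := hz
      rw [Function.comp_apply, ← map_mul]
      exact hγ _
    | zero => simp
    | add _ _ _ _ h1 h2 => rw [mul_add]; exact add_mem h1 h2
    | smul c _ _ h1 => rw [mul_smul_comm]; exact V.smul_mem c h1
  haveI : FiniteDimensional E V := FiniteDimensional.span_of_finite E (Set.finite_range _)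
  let μ : V →ₗ[E] V := (LinearMap.mulLeft E (α s)).restrict hmul
  have hinj : Function.Injective μ := fun v w h => Subtype.ext (hs.mul_left_cancel (congrArg Subtype.val h))
  obtain ⟨v, hv⟩ := LinearMap.surjective_of_injective hinj ⟨α a, hγ a⟩
  have hv' : α s * (v : R) = α a := congrArg Subtype.val hv
  rw [show r = v from hs.mul_left_cancel (by rw [hv', mul_comm, hr])]
  exact v.2

variable {E R L : Type u} [Field E] [CommRing R] [Field L] [Algebra E R] [Algebra R L]
  (hπ : Function.Surjective (algebraMap R L))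
  (hsq : ∀ a b : R, algebraMap R L a = 0 → algebraMap R L b = 0 → a * b = 0)

include hπ hsq in
/-- A derivation detecting an element can be replaced by one killing the constants of a finite stage. -/
theorem exists_derivation_stage (p : ℕ) [Fact p.Prime] [CharP E p] {ι : Type u} (F : Finset ι → Subfield E)
    (E' : Subfield E) (hmono : ∀ {T T' : Finset ι}, T ⊆ T' → F T' ≤ F T) (hinter : ∀ z, (∀ T, z ∈ F T) → z ∈ E')
    (hle : ∀ T, E' ≤ F T) (hpow : ∀ z, z ^ p ∈ E') {M : ℕ} (β : Fin M → R)
    (hβ : Submodule.span E (Set.range β) = ⊤) (δ₀ : Derivation ℤ R L) (hδ₀ : ∀ e ∈ E', δ₀ (algebraMap E R e) = 0)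
    {x : R} (hx : algebraMap R L x = 0) (hx0 : δ₀ x ≠ 0) :
    ∃ (T : Finset ι) (δ : Derivation ℤ R L), (∀ e ∈ F T, δ (algebraMap E R e) = 0) ∧ δ x ≠ 0 := by
  classical
  letI : Algebra E L := ((algebraMap R L).comp (algebraMap E R)).toAlgebra
  let π : R →ₐ[E] L := { algebraMap R L with commutes' := fun _ => rfl }
  haveI : Nontrivial R := (algebraMap R L).domain_nontrivial
  haveI : CharP R p := charP_of_injective_algebraMap (algebraMap E R).injective p
  haveI : CharP L p := charP_of_injective_algebraMap (algebraMap E L).injective p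
  haveI : ExpChar R p := ExpChar.prime Fact.out
  let w : Fin M → R := fun l => β l ^ p
  obtain ⟨T, Z, hZ, hZT⟩ := exists_stage F E' hmono hinter hle π w
  let V : Submodule (F T) R := Submodule.span (F T) (Set.range w)
  have hrp : ∀ r : R, r ^ p ∈ V := fun r => by
    obtain ⟨c, rfl⟩ := (Submodule.mem_span_range_iff_exists_fun _).1 (hβ ▸ Submodule.mem_top : r ∈ _)
    rw [sum_pow_char]
    refine sum_mem fun l _ => ?_
    rw [smul_pow]
    exact V.smul_mem (⟨c l ^ p, hle T (hpow _)⟩ : F T) (Submodule.subset_span ⟨l, rfl⟩)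
  have hmul : ∀ a ∈ V, ∀ b ∈ V, a * b ∈ V := fun a ha b hb => by
    induction ha using Submodule.span_induction with
    | mem z hz =>
      obtain ⟨l, rfl⟩ := hz
      induction hb using Submodule.span_induction with
      | mem z hz => obtain ⟨l', rfl⟩ := hz; rw [← mul_pow]; exact hrp _
      | zero => simp
      | add _ _ _ _ h1 h2 => rw [mul_add]; exact add_mem h1 h2
      | smul c _ _ h1 => rw [mul_smul_comm]; exact V.smul_mem c h1
    | zero => simp
    | add _ _ _ _ h1 h2 => rw [add_mul]; exact add_mem h1 h2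
    | smul c _ _ h1 => rw [smul_mul_assoc]; exact V.smul_mem c h1
  let N : Ideal R := Ideal.span Z
  have hNker : ∀ y ∈ N, algebraMap R L y = 0 :=
    fun y hy => (Ideal.span_le (I := RingHom.ker (algebraMap R L))).2 (fun z hz => (hZ z hz).1) hy
  have hδw : ∀ y ∈ Submodule.span E' (Set.range w), δ₀ y = 0 := fun y hy => by
    induction hy using Submodule.span_induction with
    | mem z hz =>
      obtain ⟨l, rfl⟩ := hz
      rw [Derivation.leibniz_pow, ← Nat.cast_smul_eq_nsmul R, CharP.cast_eq_zero, zero_smul]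
    | zero => simp
    | add _ _ _ _ h1 h2 => rw [map_add, h1, h2, add_zero]
    | smul c _ _ h1 => rw [Subfield.smul_def, Algebra.smul_def, δ₀.leibniz, h1, hδ₀ _ c.2, smul_zero, smul_zero, add_zero]
  have hN0 : ∀ y ∈ N, δ₀ y = 0 := fun y hy => by
    induction hy using Submodule.span_induction with
    | mem z hz => exact hδw z (hZ z hz).2
    | zero => simp
    | add _ _ _ _ h1 h2 => rw [map_add, h1, h2, add_zero]
    | smul c z hz h1 =>
      rw [smul_eq_mul, δ₀.leibniz, h1, smul_zero, zero_add, Algebra.smul_def, hNker z hz, zero_mul]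
  have hxN : x ∉ N := fun h => hx0 (hN0 x h)
  letI : Algebra (R ⧸ N) L := (Ideal.Quotient.lift N (algebraMap R L) hNker).toAlgebra
  have hQ : ∀ r : R, algebraMap (R ⧸ N) L (Ideal.Quotient.mk N r) = algebraMap R L r := fun r => rfl
  haveI : Nontrivial (R ⧸ N) := (algebraMap (R ⧸ N) L).domain_nontrivial
  haveI : CharP (R ⧸ N) p := charP_of_injective_algebraMap (algebraMap E (R ⧸ N)).injective p
  let W : Subring (R ⧸ N) := Subring.map (Ideal.Quotient.mk N)
    { carrier := V
      mul_mem' := fun {a b} ha hb => hmul a ha b hb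
      one_mem' := by simpa using hrp 1
      add_mem' := fun ha hb => V.add_mem ha hb
      zero_mem' := V.zero_mem
      neg_mem' := fun ha => V.neg_mem ha }
  obtain ⟨δ, hδW, hδx⟩ := exists_derivation_detect (R := R ⧸ N) (L := L)
    (fun c => by obtain ⟨r, rfl⟩ := hπ c; exact ⟨Ideal.Quotient.mk N r, hQ r⟩)
    (fun a b ha hb => by
      obtain ⟨a, rfl⟩ := Ideal.Quotient.mk_surjective a
      obtain ⟨b, rfl⟩ := Ideal.Quotient.mk_surjective b
      rw [← map_mul, hsq a b ha hb, map_zero])
    p W (by
      rintro _ ⟨y, hy, rfl⟩ h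
      exact Ideal.Quotient.eq_zero_iff_mem.2 (hZT y hy h))
    (fun r => by
      obtain ⟨r, rfl⟩ := Ideal.Quotient.mk_surjective r
      exact ⟨r ^ p, hrp r, map_pow _ _ _⟩)
    (x := Ideal.Quotient.mk N x) hx (fun h => hxN (Ideal.Quotient.eq_zero_iff_mem.1 h))
  refine ⟨T, Derivation.mk' (δ.toLinearMap.toAddMonoidHom.comp
    (Ideal.Quotient.mk N).toAddMonoidHom).toIntLinearMap (fun a b => ?_), fun e he => ?_, hδx⟩
  · show δ (Ideal.Quotient.mk N (a * b)) = a • δ (Ideal.Quotient.mk N b) + b • δ (Ideal.Quotient.mk N a)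
    rw [map_mul, δ.leibniz, Algebra.smul_def, Algebra.smul_def, Algebra.smul_def, Algebra.smul_def, hQ, hQ]
  · show δ (Ideal.Quotient.mk N (algebraMap E R e)) = 0
    refine hδW _ ⟨algebraMap E R e, ?_, rfl⟩
    rw [Algebra.algebraMap_eq_smul_one]
    have h1 : (1 : R) ∈ V := by simpa using hrp 1
    exact V.smul_mem (⟨e, he⟩ : F T) h1

omit [Algebra R L] in
/-- In a separable residue extension a section detects nilpotents. -/
theorem exists_derivation_separable [Algebra R L] [Algebra E L] [IsScalarTower E R L]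
    (hπ : Function.Surjective (algebraMap R L))
    (hsq : ∀ a b : R, algebraMap R L a = 0 → algebraMap R L b = 0 → a * b = 0)
    [Algebra.IsSeparable E L] {x : R} (hx : algebraMap R L x = 0) (hx0 : x ≠ 0) :
    ∃ δ : Derivation ℤ R L, (∀ e, δ (algebraMap E R e) = 0) ∧ δ x ≠ 0 := by
  haveI : Algebra.FormallyEtale E L := Algebra.FormallyEtale.of_isSeparable E L
  let π : R →ₐ[E] L := IsScalarTower.toAlgHom E R L
  have hnil : IsNilpotent (RingHom.ker π) := ⟨2, by
    rw [Ideal.zero_eq_bot, eq_bot_iff, pow_two]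
    exact Ideal.mul_le.2 fun a ha b hb => Ideal.mem_bot.2 (hsq a b ha hb)⟩
  let s := Algebra.FormallySmooth.liftOfSurjective (AlgHom.id E L) π hπ hnil
  obtain ⟨δ, hδ, hδx⟩ := exists_derivation_of_section hπ hsq s.toRingHom
    (Algebra.FormallySmooth.liftOfSurjective_apply (AlgHom.id E L) π hπ hnil) hx hx0
  refine ⟨δ, fun e => ?_, hδx⟩
  rw [← s.commutes e]
  exact hδ _

end Groth.Agent.NagJac3
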