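import Groth.Agent.Lib.NagJac3.Lift
import Groth.Agent.Lib.NagJac3.Stage

/-! # Derivations with bounded denominators lift to the complete ring -/

set_option autoImplicit false
set_option linter.style.haveILetI false
universe u

namespace Groth.Agent.NagJac3

open IsLocalRing

/-- A derivation into the residue field at a prime, with finitely many denominators, lifts up to a scalar. -/
theorem exists_derivation_of_bounded {k K A L : Type u} [Field k] [Field K] [Algebra k K] [CommRing A]
    [IsLocalRing A] [IsNoetherianRing A] [IsAdicComplete (maximalIdeal A) A] [Algebra k A] [Algebra K A]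
    [IsScalarTower k K A] (hA : CAlgX.IsAdicFormallySmooth K A (maximalIdeal A)) (P : Ideal A) [Field L]
    [Algebra A L] (hker : RingHom.ker (algebraMap A L) = P)
    (hfrac : ∀ z : L, ∃ a s : A, algebraMap A L s ≠ 0 ∧ z * algebraMap A L s = algebraMap A L a)
    (d : Derivation ℤ A L) {M : ℕ} (G : Fin M → A)
    (hG : ∀ a, ∃ c : Fin M → A, d a = ∑ l, algebraMap A L (c l) * d (G l))
    {ι : Type u} (δ : ι → Derivation ℤ K K) (b : ι → K) (T : Finset ι) (hδk : ∀ i c, δ i (algebraMap k K c) = 0)
    (hb : ∀ i, δ i (b i) = 1) (hb' : ∀ i j, i ≠ j → δ i (b j) = 0)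
    (hgen : ∀ W : Subfield K, (∀ x, (∀ i ∈ T, δ i x = 0) → x ∈ W) → (∀ i ∈ T, b i ∈ W) → W = ⊤)
    (hd : ∀ x, (∀ i ∈ T, δ i x = 0) → d (algebraMap K A x) = 0) {a : A} (ha : d a ≠ 0) :
    ∃ D : Derivation k A A, algebraMap A L (D a) ≠ 0 := by
  classical
  choose num den hden hnum using fun l => hfrac (d (G l))
  let s : A := ∏ l, den l
  have hs : algebraMap A L s ≠ 0 := by
    rw [map_prod]
    exact Finset.prod_ne_zero_iff.2 fun l _ => hden l
  have hrange : ∀ x, ∃ y : A, algebraMap A L y = algebraMap A L s * d x := fun x => by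
    obtain ⟨c, hc⟩ := hG x
    refine ⟨∑ l, c l * (num l * ∏ j ∈ Finset.univ.erase l, den j), ?_⟩
    rw [hc, map_sum, Finset.mul_sum]
    refine Finset.sum_congr rfl fun l _ => ?_
    rw [show s = den l * ∏ j ∈ Finset.univ.erase l, den j from (Finset.mul_prod_erase _ _ (Finset.mem_univ l)).symm,
      map_mul, map_mul, map_mul, ← hnum]
    ring
  choose y hy using hrange
  have hmk : ∀ u v : A, algebraMap A L u = algebraMap A L v → Ideal.Quotient.mk P u = Ideal.Quotient.mk P v :=
    fun u v h => Ideal.Quotient.eq.2 (hker ▸ RingHom.sub_mem_ker_iff _ |>.2 h)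
  let δA : Derivation ℤ A (A ⧸ P) := Derivation.mk'
    (AddMonoidHom.mk' (fun x => Ideal.Quotient.mk P (y x)) fun u v => by
      rw [← map_add]
      exact hmk _ _ (by simp [hy, mul_add])).toIntLinearMap fun u v => by
    show Ideal.Quotient.mk P (y (u * v)) = u • Ideal.Quotient.mk P (y v) + v • Ideal.Quotient.mk P (y u)
    rw [Algebra.smul_def, Algebra.smul_def, Ideal.Quotient.algebraMap_eq, ← map_mul, ← map_mul, ← map_add]
    refine hmk _ _ ?_
    simp only [hy, map_add, map_mul, d.leibniz, Algebra.smul_def]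
    ring
  let dA : Derivation ℤ K A := Derivation.mk'
    (AddMonoidHom.mk' (fun x => ∑ i ∈ T, algebraMap K A (δ i x) * y (algebraMap K A (b i))) fun u v => by
      rw [← Finset.sum_add_distrib]
      exact Finset.sum_congr rfl fun i _ => by rw [map_add, map_add, add_mul]).toIntLinearMap fun u v => by
    show (∑ i ∈ T, algebraMap K A (δ i (u * v)) * y (algebraMap K A (b i))) =
      u • (∑ i ∈ T, algebraMap K A (δ i v) * y (algebraMap K A (b i))) +
        v • (∑ i ∈ T, algebraMap K A (δ i u) * y (algebraMap K A (b i)))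
    rw [Algebra.smul_def, Algebra.smul_def, Finset.mul_sum, Finset.mul_sum, ← Finset.sum_add_distrib]
    refine Finset.sum_congr rfl fun i _ => ?_
    rw [(δ i).leibniz, smul_eq_mul, smul_eq_mul, map_add, map_mul, map_mul]
    ring
  have hdA : ∀ x, dA x = ∑ i ∈ T, algebraMap K A (δ i x) * y (algebraMap K A (b i)) := fun x => rfl
  let d0 : Derivation ℤ K (A ⧸ P) := Derivation.mk'
    (AddMonoidHom.mk' (fun x => δA (algebraMap K A x) - Ideal.Quotient.mk P (dA x)) fun u v => by
      simp only [map_add]; abel).toIntLinearMap fun u v => by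
    show δA (algebraMap K A (u * v)) - Ideal.Quotient.mk P (dA (u * v)) =
      u • (δA (algebraMap K A v) - Ideal.Quotient.mk P (dA v)) +
        v • (δA (algebraMap K A u) - Ideal.Quotient.mk P (dA u))
    simp only [map_mul, dA.leibniz, δA.leibniz, Algebra.smul_def, map_add, Ideal.Quotient.algebraMap_eq,
      IsScalarTower.algebraMap_apply K A (A ⧸ P)]
    ring
  have htop := hgen (constSubfield (RingHom.id K) d0) (fun x hx => by
    show δA (algebraMap K A x) - Ideal.Quotient.mk P (dA x) = 0
    have h1 : dA x = 0 := by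
      rw [hdA]
      exact Finset.sum_eq_zero fun i hi => by rw [hx i hi, map_zero, zero_mul]
    rw [h1, map_zero, sub_zero]
    exact (hmk _ 0 (by rw [hy, hd x hx, mul_zero, map_zero])).trans (map_zero _))
    (fun j hj => by
      show δA (algebraMap K A (b j)) - Ideal.Quotient.mk P (dA (b j)) = 0
      rw [hdA, Finset.sum_eq_single j (fun i _ hij => by rw [hb' i j hij, map_zero, zero_mul])
        (fun h => absurd hj h), hb, map_one, one_mul]
      exact sub_self _)
  obtain ⟨D, hD1, hD2⟩ := exists_derivation_lift hA P dA δA fun x =>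
    sub_eq_zero.1 (show d0 x = 0 from (htop ▸ Subfield.mem_top x : x ∈ constSubfield (RingHom.id K) d0))
  have hDk : ∀ c : k, D (algebraMap k A c) = 0 := fun c => by
    rw [IsScalarTower.algebraMap_apply k K A, hD1, hdA]
    exact Finset.sum_eq_zero fun i _ => by rw [hδk, map_zero, zero_mul]
  refine ⟨Derivation.mk' { toFun := D, map_add' := map_add D, map_smul' := fun c x => ?_ } (fun u v => D.leibniz u v), ?_⟩
  · rw [Algebra.smul_def, D.leibniz, hDk, smul_zero, add_zero, RingHom.id_apply, algebraMap_smul]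
  · show algebraMap A L (D a) ≠ 0
    have h2 : algebraMap A L (D a) = algebraMap A L (y a) :=
      RingHom.sub_mem_ker_iff _ |>.1 (hker.symm ▸ Ideal.Quotient.eq.1 (hD2 a))
    rw [h2, hy]
    exact mul_ne_zero hs ha

end Groth.Agent.NagJac3
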