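import Groth.Prelude.Def_CAlgX
import Mathlib.RingTheory.Derivation.Basic
import Mathlib.RingTheory.LocalRing.ResidueField.Basic
import Mathlib.RingTheory.Filtration
import Mathlib.RingTheory.Nakayama
import Mathlib.LinearAlgebra.Dimension.StrongRankCondition
import Mathlib.RingTheory.Ideal.Cotangent

/-! # Dual derivations of a formally smooth quotient -/

set_option autoImplicit false
set_option linter.style.haveILetI false
universe u

namespace Groth.Agent.NagJac3

open IsLocalRing

/-- A square-zero splitting of a formally smooth quotient, truncated. -/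
theorem exists_section {k R : Type u} [CommRing k] [CommRing R] [IsLocalRing R] [Algebra k R] (J K : Ideal R)
    (hJK : J ^ 2 ≤ K) (hn : ∃ n : ℕ, maximalIdeal R ^ n ≤ K) [IsLocalRing (R ⧸ J)]
    (h : CAlgX.IsAdicFormallySmooth k (R ⧸ J) (maximalIdeal (R ⧸ J))) :
    ∃ χ : (R ⧸ J) →ₐ[k] R ⧸ K, ∀ x, ∃ y : J,
      Ideal.Quotient.mk K (y : R) = Ideal.Quotient.mk K x - χ (Ideal.Quotient.mk J x) := by
  obtain ⟨n, hn⟩ := hn
  let J' : Ideal (R ⧸ K) := J.map (Ideal.Quotient.mk K)
  have hJ'2 : J' ^ 2 = ⊥ := by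
    rw [← Ideal.map_pow]
    exact Ideal.map_mk_eq_bot_of_le hJK
  let ψ : (R ⧸ J) →ₐ[k] (R ⧸ K) ⧸ J' := Ideal.Quotient.liftₐ J
    ((Ideal.Quotient.mkₐ k J').comp (Ideal.Quotient.mkₐ k K)) fun x hx =>
      Ideal.Quotient.eq_zero_iff_mem.2 (Ideal.mem_map_of_mem (Ideal.Quotient.mk K) hx)
  obtain ⟨χ, hχ⟩ := h (R ⧸ K) J' hJ'2 ψ ⟨n, fun x hx => by
    rw [← map_maximalIdeal_of_surjective (Ideal.Quotient.mk J) Ideal.Quotient.mk_surjective, ← Ideal.map_pow,
      Ideal.mem_map_iff_of_surjective _ Ideal.Quotient.mk_surjective] at hx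
    obtain ⟨y, hy, rfl⟩ := hx
    show Ideal.Quotient.mk J' (Ideal.Quotient.mk K y) = 0
    rw [Ideal.Quotient.eq_zero_iff_mem.2 (hn hy : y ∈ K), map_zero]⟩
  refine ⟨χ, fun x => ?_⟩
  have h6 : Ideal.Quotient.mk K x - χ (Ideal.Quotient.mk J x) ∈ J' :=
    Ideal.Quotient.eq.1 (AlgHom.congr_fun hχ (Ideal.Quotient.mk J x)).symm
  obtain ⟨y, hy, hye⟩ := (Ideal.mem_map_iff_of_surjective _ Ideal.Quotient.mk_surjective).1 h6
  exact ⟨⟨y, hy⟩, hye⟩

-- Minimal equations of a formally smooth quotient admit dual derivations into the residue field.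
set_option maxHeartbeats 400000 in
theorem exists_dual_derivations {k R : Type u} [CommRing k] [CommRing R] [IsLocalRing R] [IsNoetherianRing R]
    [Algebra k R] (J : Ideal R) (hJ : J ≤ maximalIdeal R) [IsLocalRing (R ⧸ J)]
    (h : CAlgX.IsAdicFormallySmooth k (R ⧸ J) (maximalIdeal (R ⧸ J))) (S : Set R) (hS : Ideal.span S = J) :
    ∃ (m : ℕ) (f : Fin m → R) (δ : Fin m → Derivation k R (ResidueField R)),
      (∀ i, f i ∈ S) ∧ Ideal.span (Set.range f) = J ∧ ∀ i j, δ i (f j) = if i = j then 1 else 0 := by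
  classical
  let mJ : Ideal R := maximalIdeal R * J
  let M := J ⧸ (maximalIdeal R • ⊤ : Submodule R J)
  letI : Field (R ⧸ maximalIdeal R) := Ideal.Quotient.field _
  haveI : Module.Finite R J := Module.Finite.iff_fg.2 (IsNoetherian.noetherian J)
  haveI : Module.Finite (R ⧸ maximalIdeal R) M := Module.Finite.of_restrictScalars_finite R (R ⧸ maximalIdeal R) M
  have hSJ : ∀ x ∈ S, x ∈ J := fun x hx => hS ▸ Ideal.subset_span hx
  let π : J →ₗ[R] M := Submodule.mkQ _
  let S' : Set M := {y | ∃ x, ∃ hx : x ∈ S, π ⟨x, hSJ x hx⟩ = y}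
  have hspan : Submodule.span (R ⧸ maximalIdeal R) S' = ⊤ := by
    have h1 : Submodule.span R ((fun x : J => (x : R)) ⁻¹' S) = ⊤ := by
      refine Submodule.map_injective_of_injective J.injective_subtype ?_
      rw [Submodule.map_span, Submodule.map_top, Submodule.range_subtype, ← hS]
      refine congrArg _ (Set.ext fun x => ⟨?_, fun hx => ⟨⟨x, hS ▸ Ideal.subset_span hx⟩, hx, rfl⟩⟩)
      rintro ⟨y, hy, rfl⟩
      exact hy
    refine eq_top_iff.2 fun y _ => ?_
    obtain ⟨y, rfl⟩ := Submodule.mkQ_surjective _ y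
    have h2 : Submodule.span R ((fun x : J => (x : R)) ⁻¹' S) ≤
        ((Submodule.span (R ⧸ maximalIdeal R) S').restrictScalars R).comap π :=
      Submodule.span_le.2 fun x hx => Submodule.subset_span ⟨x, hx, rfl⟩
    exact h2 (h1 ▸ trivial)
  obtain ⟨v, hvS, hvspan, hvli⟩ := Submodule.exists_fun_fin_finrank_span_eq (R ⧸ maximalIdeal R) S'
  set m := Module.finrank (R ⧸ maximalIdeal R) (Submodule.span (R ⧸ maximalIdeal R) S')
  choose f hfS hfv using hvS
  have hfJ : ∀ i, f i ∈ J := fun i => hSJ _ (hfS i)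
  let b : Module.Basis (Fin m) (R ⧸ maximalIdeal R) M := Module.Basis.mk hvli (hvspan.trans hspan).ge
  have hb : ∀ i, b i = π ⟨f i, hfJ i⟩ := fun i => (Module.Basis.mk_apply _ _ i).trans (hfv i).symm
  have hgen : Ideal.span (Set.range f) = J := by
    refine le_antisymm (Ideal.span_le.2 (by rintro _ ⟨i, rfl⟩; exact hfJ i)) ?_
    refine Submodule.le_of_le_smul_of_le_jacobson_bot (IsNoetherian.noetherian J) (maximalIdeal_le_jacobson _) ?_
    intro x hx
    have hc : π ⟨x, hx⟩ = ∑ i, b.repr (π ⟨x, hx⟩) i • b i := (b.sum_repr _).symm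
    choose c hcr using fun i => Ideal.Quotient.mk_surjective (I := maximalIdeal R) (b.repr (π ⟨x, hx⟩) i)
    have h3 : π ⟨x, hx⟩ = π (∑ i, c i • ⟨f i, hfJ i⟩) := by
      rw [map_sum]
      refine hc.trans (Finset.sum_congr rfl fun i _ => ?_)
      rw [map_smul, hb, ← hcr]
      exact algebraMap_smul (R ⧸ maximalIdeal R) (c i) _
    rw [Submodule.mkQ_apply, Submodule.mkQ_apply, Submodule.Quotient.eq] at h3
    have h4 := Submodule.mem_map_of_mem (f := J.subtype) h3
    rw [Submodule.map_smul'', Submodule.map_top, Submodule.range_subtype] at h4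
    rw [← sub_add_cancel x (∑ i, c i * f i)]
    exact add_mem (Submodule.mem_sup_right (by simpa using h4))
      (Submodule.mem_sup_left (Ideal.sum_mem _ fun i _ => Ideal.mul_mem_left _ _ (Ideal.subset_span ⟨i, rfl⟩)))
  -- truncation
  obtain ⟨a, ha⟩ := Ideal.exists_pow_inf_eq_pow_smul (maximalIdeal R) (J : Submodule R R)
  let n := a + 1
  have hAR : maximalIdeal R ^ n ⊓ J ≤ mJ := by
    intro x hx
    have h5 : x ∈ maximalIdeal R ^ n • (⊤ : Submodule R R) ⊓ J := ⟨by simpa using hx.1, hx.2⟩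
    rw [ha n (Nat.le_succ a), show n - a = 1 from Nat.add_sub_cancel_left a 1, pow_one] at h5
    exact Submodule.smul_mono le_rfl inf_le_right h5
  let K : Ideal R := mJ ⊔ maximalIdeal R ^ n
  have hKJ : ∀ x ∈ J, x ∈ K → x ∈ mJ := fun x hxJ hxK => by
    obtain ⟨y, hy, z, hz, rfl⟩ := Submodule.mem_sup.1 hxK
    have hzJ : z ∈ J := (add_mem_cancel_left (H := J) (show y ∈ J from (Ideal.mul_le_right : maximalIdeal R * J ≤ J) hy)).1 hxJ
    exact mJ.add_mem hy (hAR ⟨hz, hzJ⟩)
  have hJK : J ^ 2 ≤ K := by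
    refine le_trans ?_ le_sup_left
    rw [pow_two]
    exact Ideal.mul_mono_left hJ
  obtain ⟨χ, hΔ⟩ := exists_section J K hJK ⟨n, le_sup_right⟩ h
  let Δ : R → R ⧸ K := fun x => Ideal.Quotient.mk K x - χ (Ideal.Quotient.mk J x)
  choose lift hlift' using hΔ
  have hlift : ∀ x, Ideal.Quotient.mk K (lift x : R) = Δ x := hlift'
  have hπ : ∀ y z : J, Ideal.Quotient.mk K (y : R) = Ideal.Quotient.mk K (z : R) → π y = π z := fun y z hyz => by
    rw [Submodule.mkQ_apply, Submodule.mkQ_apply, Submodule.Quotient.eq]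
    have h7 : ((y - z : J) : R) ∈ maximalIdeal R • J :=
      hKJ _ (y - z).2 (by simpa using Ideal.Quotient.eq.1 hyz)
    have h7' : ((y - z : J) : R) ∈ (maximalIdeal R • (⊤ : Submodule R J)).map J.subtype := by
      rw [Submodule.map_smul'', Submodule.map_top, Submodule.range_subtype]
      exact h7
    obtain ⟨w, hw, hwe⟩ := h7'
    rwa [← Subtype.ext (a1 := w) hwe]
  let T : R → M := fun x => π (lift x)
  have hTadd : ∀ x y, T (x + y) = T x + T y := fun x y => by
    refine (hπ _ (lift x + lift y) ?_).trans (map_add _ _ _)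
    rw [Submodule.coe_add, map_add, hlift, hlift, hlift]
    simp only [Δ, map_add]
    ring
  have hTmul : ∀ x y, T (x * y) = x • T y + y • T x := fun x y => by
    refine (hπ _ (x • lift y + y • lift x) ?_).trans (by rw [map_add, map_smul, map_smul])
    rw [Submodule.coe_add, map_add, hlift]
    simp only [SetLike.val_smul, smul_eq_mul, map_mul, hlift]
    have h8 : Δ x * Δ y = 0 := by
      rw [← hlift, ← hlift, ← map_mul, Ideal.Quotient.eq_zero_iff_mem]
      exact hJK (by rw [pow_two]; exact Ideal.mul_mem_mul (lift x).2 (lift y).2)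
    simp only [Δ, map_mul] at h8 ⊢
    linear_combination -h8
  have hTk : ∀ c : k, T (algebraMap k R c) = 0 := fun c => by
    refine (hπ _ 0 ?_).trans (map_zero _)
    rw [hlift, Submodule.coe_zero, map_zero]
    simp [Δ]
  have hTf : ∀ j, T (f j) = b j := fun j => by
    rw [hb]
    refine hπ _ _ ?_
    rw [hlift]
    simp [Δ, Ideal.Quotient.eq_zero_iff_mem.2 (hfJ j)]
  let D : Derivation k R M := Derivation.mk'
    { toFun := T
      map_add' := hTadd
      map_smul' := fun c x => by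
        rw [Algebra.smul_def, hTmul, hTk, smul_zero, add_zero, RingHom.id_apply, algebraMap_smul] } hTmul
  let e : (R ⧸ maximalIdeal R) →ₐ[R] ResidueField R :=
    Ideal.Quotient.liftₐ _ (Algebra.ofId R (ResidueField R)) fun x hx => (residue_eq_zero_iff x).2 hx
  refine ⟨m, f, fun i => (e.toLinearMap ∘ₗ (b.coord i).restrictScalars R).compDer D, hfS, hgen, fun i j => ?_⟩
  show e (b.coord i (T (f j))) = _
  rw [hTf, Module.Basis.coord_apply, Module.Basis.repr_self, Finsupp.single_apply]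
  split_ifs with h1 h2 h2 <;> first | exact map_one e | exact map_zero e | exact absurd h1.symm h2 | exact absurd h2.symm h1

end Groth.Agent.NagJac3
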