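import Groth.Agent.Lib.NagJac3.Detection
import Groth.Agent.Lib.NagJac3.DualDer
import Groth.Agent.Lib.JacPS3.Sufficient
import Groth.Agent.Lib.JacPS3.LocQuot
import Groth.Agent.Lib.AdicSmooth.Jacobian
import Groth.Agent.S4574
import Groth.Agent.S2451

/-! # Nagata's Jacobian criterion -/

set_option autoImplicit false
set_option linter.style.haveILetI false
universe u

namespace Groth.Agent.NagJac3

open IsLocalRing

variable {k K A : Type u} [Field k] [Field K] [Algebra k K] [CommRing A] [IsLocalRing A] [IsNoetherianRing A]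
  [IsAdicComplete (maximalIdeal A) A] [Algebra k A] [Algebra K A] [IsScalarTower k K A]
  [Module.Finite K (ResidueField A)]

/-- Elements with dual residual derivations have an invertible Jacobian for some derivations of the ring. -/
theorem exists_jacobian_of_dual (hA : CAlgX.IsAdicFormallySmooth K A (maximalIdeal A)) (P : Ideal A) [P.IsPrime]
    (p : ℕ) [ExpChar k p] (hk : p = 1 ∨ Module.Finite (frobenius k p).fieldRange k) {m : ℕ} (f : Fin m → A)
    (hf : ∀ j, f j ∈ P) (δ : Fin m → Derivation k A P.ResidueField)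
    (hδ : ∀ i j, δ i (f j) = if i = j then 1 else 0) :
    ∃ D : Fin m → Derivation k A A, Matrix.det (Matrix.of fun i j => D i (f j)) ∉ P := by
  classical
  let φ := algebraMap A P.ResidueField
  let S : Set (Fin m → P.ResidueField) := Set.range fun D : Derivation k A A => fun j => φ (D (f j))
  have htop : Submodule.span P.ResidueField S = ⊤ := by
    by_contra hne
    obtain ⟨x, hx⟩ := SetLike.exists_of_lt (lt_top_iff_ne_top.2 hne)
    obtain ⟨ℓ, hℓx, hℓS⟩ := Submodule.exists_dual_map_eq_bot_of_notMem hx.2 inferInstance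
    let c : Fin m → P.ResidueField := fun j => ℓ (Pi.single j 1)
    have hℓ : ∀ v : Fin m → P.ResidueField, ℓ v = ∑ j, v j * c j := fun v => by
      rw [show ∑ j, v j * c j = ℓ (∑ j, v j • Pi.single j 1) by simp [c, map_sum]]
      exact congrArg ℓ (pi_eq_sum_univ' v)
    obtain ⟨s, hs⟩ := IsLocalization.exist_integer_multiples_of_finite (nonZeroDivisors (A ⧸ P))
      (S := P.ResidueField) c
    choose y hy using hs
    choose z hz using fun j => Ideal.Quotient.mk_surjective (y j)
    let σ : P.ResidueField := algebraMap (A ⧸ P) P.ResidueField s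
    have hσ : σ ≠ 0 := IsFractionRing.to_map_ne_zero_of_mem_nonZeroDivisors s.2
    have hcy : ∀ j, φ (z j) = σ * c j := fun j => by
      show algebraMap A P.ResidueField (z j) = _
      rw [IsScalarTower.algebraMap_apply A (A ⧸ P) P.ResidueField, Ideal.Quotient.algebraMap_eq, hz, hy,
        Algebra.smul_def]
    obtain ⟨i, hi⟩ : ∃ i, c i ≠ 0 := by
      by_contra hcon
      push Not at hcon
      exact hℓx (by rw [hℓ]; simp [hcon])
    have ha : ∑ j, z j * f j ∈ P := sum_mem fun j _ => P.mul_mem_left _ (hf j)
    have hval : ∀ d : Derivation k A P.ResidueField, d (∑ j, z j * f j) = ∑ j, φ (z j) * d (f j) := fun d => by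
      rw [map_sum]
      refine Finset.sum_congr rfl fun j _ => ?_
      rw [d.leibniz, Algebra.smul_def, Algebra.smul_def, Ideal.algebraMap_residueField_eq_zero.2 (hf j), zero_mul,
        add_zero]
    obtain ⟨D, hD⟩ := exists_derivation_residue hA P p hk (δ i) ha (by
      rw [hval, Finset.sum_eq_single i (fun j _ hj => by rw [hδ, if_neg (Ne.symm hj), mul_zero])
        (fun h => absurd (Finset.mem_univ _) h), hδ, if_pos rfl, mul_one, hcy]
      exact mul_ne_zero hσ hi)
    refine hD (Ideal.algebraMap_residueField_eq_zero.1 ?_)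
    have h0 : ℓ (fun j => φ (D (f j))) = 0 :=
      (Submodule.mem_bot P.ResidueField).1 (hℓS ▸ Submodule.mem_map_of_mem (Submodule.subset_span ⟨D, rfl⟩))
    rw [hℓ] at h0
    rw [map_sum, map_sum]
    calc ∑ j, φ (D (z j * f j)) = σ * ∑ j, φ (D (f j)) * c j := by
          rw [Finset.mul_sum]
          refine Finset.sum_congr rfl fun j _ => ?_
          rw [D.leibniz, smul_eq_mul, smul_eq_mul, map_add, map_mul, map_mul, hcy,
            show φ (f j) = 0 from Ideal.algebraMap_residueField_eq_zero.2 (hf j)]
          ring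
      _ = 0 := by rw [h0, mul_zero]
  obtain ⟨v, hv, hvspan, hvli⟩ := Submodule.exists_fun_fin_finrank_span_eq P.ResidueField S
  have hm : Module.finrank P.ResidueField (Submodule.span P.ResidueField S) = m := by
    rw [htop, finrank_top, Module.finrank_fin_fun]
  choose D hD using hv
  refine ⟨fun i => D (Fin.cast hm.symm i), fun h => ?_⟩
  have h1 : φ (Matrix.det (Matrix.of fun i j => D (Fin.cast hm.symm i) (f j))) = 0 :=
    Ideal.algebraMap_residueField_eq_zero.2 h
  rw [RingHom.map_det] at h1
  have hli : LinearIndependent P.ResidueField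
      (φ.mapMatrix (Matrix.of fun i j => D (Fin.cast hm.symm i) (f j))).row := by
    rw [show (φ.mapMatrix (Matrix.of fun i j => D (Fin.cast hm.symm i) (f j))).row = fun i => v (Fin.cast hm.symm i)
      from funext fun i => hD (Fin.cast hm.symm i)]
    exact hvli.comp _ (Fin.cast_injective _)
  exact ((Matrix.isUnit_iff_isUnit_det _).1 (Matrix.linearIndependent_rows_iff_isUnit.1 hli)).ne_zero h1

omit [Module.Finite K (ResidueField A)] [IsAdicComplete (maximalIdeal A) A] in
/-- An invertible Jacobian gives formal smoothness. -/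
theorem isAdicFormallySmooth_of_jacobian [Algebra.IsGeometricallyReduced k K]
    (hA : CAlgX.IsAdicFormallySmooth K A (maximalIdeal A)) (q P : Ideal A) [P.IsPrime] (hq : q ≤ P)
    [(P.map (Ideal.Quotient.mk q)).IsPrime] {m : ℕ} (D : Fin m → Derivation k A A) (f : Fin m → A)
    (hgen : q.map (algebraMap A (Localization.AtPrime P)) =
      Ideal.span (Set.range fun i => algebraMap A (Localization.AtPrime P) (f i)))
    (hdet : Matrix.det (Matrix.of fun i j => D i (f j)) ∉ P) :
    CAlgX.IsAdicFormallySmooth k (Localization.AtPrime (P.map (Ideal.Quotient.mk q)))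
      (maximalIdeal (Localization.AtPrime (P.map (Ideal.Quotient.mk q)))) := by
  haveI : Algebra.FormallySmooth k K := (Groth.Agent.S2451.result).2 inferInstance
  have h1 : CAlgX.IsAdicFormallySmooth k (Localization.AtPrime P) (maximalIdeal (Localization.AtPrime P)) :=
    AdicSmooth.trans_discrete (A := K) _ (Groth.Agent.S4574.result hA P)
  obtain ⟨π, hπ, hker⟩ := JacPS3.exists_localization_quotient_map (k := k) q P hq
  choose D' hD' using fun i => JacPS3.exists_derivation_localization (R := Localization.AtPrime P) P.primeCompl (D i)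
  refine JacPS3.isAdicFormallySmooth_quotient_of_jacobian h1 π hπ _ (hker.trans hgen) D' ?_
  have : (Matrix.of fun i j => D' i (algebraMap A (Localization.AtPrime P) (f j))) =
      (algebraMap A (Localization.AtPrime P)).mapMatrix (Matrix.of fun i j => D i (f j)) :=
    Matrix.ext fun i j => hD' i (f j)
  rw [this, ← RingHom.map_det]
  exact IsLocalization.map_units (Localization.AtPrime P) (⟨_, hdet⟩ : P.primeCompl)

/-- Formal smoothness gives an invertible Jacobian. -/
theorem exists_jacobian_of_isAdicFormallySmooth (hA : CAlgX.IsAdicFormallySmooth K A (maximalIdeal A))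
    (p : ℕ) [ExpChar k p] (hk : p = 1 ∨ Module.Finite (frobenius k p).fieldRange k) (q P : Ideal A) [P.IsPrime]
    (hq : q ≤ P) [(P.map (Ideal.Quotient.mk q)).IsPrime]
    (h : CAlgX.IsAdicFormallySmooth k (Localization.AtPrime (P.map (Ideal.Quotient.mk q)))
      (maximalIdeal (Localization.AtPrime (P.map (Ideal.Quotient.mk q))))) :
    ∃ (m : ℕ) (D : Fin m → Derivation k A A) (f : Fin m → A), (∀ i, f i ∈ q) ∧
      q.map (algebraMap A (Localization.AtPrime P)) = Ideal.span (Set.range fun i => algebraMap A (Localization.AtPrime P) (f i)) ∧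
      Matrix.det (Matrix.of fun i j => D i (f j)) ∉ P := by
  classical
  haveI : IsNoetherianRing (Localization.AtPrime P) := IsLocalization.isNoetherianRing P.primeCompl _ inferInstance
  obtain ⟨π, hπ, hker⟩ := JacPS3.exists_localization_quotient_map (k := k) q P hq
  let R := Localization.AtPrime P
  let J : Ideal R := q.map (algebraMap A R)
  have hJ : J ≤ maximalIdeal R := (Ideal.map_mono hq).trans (Localization.AtPrime.map_eq_maximalIdeal).le
  haveI : Nontrivial (R ⧸ J) := Ideal.Quotient.nontrivial_iff.2 fun e => by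
    rw [e, top_le_iff] at hJ
    exact (IsLocalRing.maximalIdeal.isMaximal R).ne_top hJ
  haveI : IsLocalRing (R ⧸ J) := IsLocalRing.of_surjective' _ Ideal.Quotient.mk_surjective
  let e : (R ⧸ J) ≃ₐ[k] Localization.AtPrime (P.map (Ideal.Quotient.mk q)) :=
    (Ideal.quotientEquivAlgOfEq k hker.symm).trans (Ideal.quotientKerAlgEquivOfSurjective hπ)
  have h' : CAlgX.IsAdicFormallySmooth k (R ⧸ J) (maximalIdeal (R ⧸ J)) := by
    intro C _ _ N hN ψ hψ
    obtain ⟨n, hn⟩ := hψ
    obtain ⟨χ, hχ⟩ := h C N hN (ψ.comp e.symm.toAlgHom) ⟨n, fun x hx => hn _ (by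
      have := Ideal.mem_map_of_mem e.symm.toRingEquiv.toRingHom hx
      rwa [Ideal.map_pow, map_maximalIdeal_of_surjective _ e.symm.surjective] at this)⟩
    refine ⟨χ.comp e.toAlgHom, AlgHom.ext fun x => ?_⟩
    exact (AlgHom.congr_fun hχ (e x)).trans (congrArg ψ (e.symm_apply_apply x))
  obtain ⟨m, g, δ, hg, hgen, hδ⟩ := exists_dual_derivations J hJ h' (algebraMap A R '' q) rfl
  choose f hfq hfg using hg
  obtain ⟨D, hD⟩ := exists_jacobian_of_dual hA P p hk f (fun j => hq (hfq j))
    (fun i => (δ i).compAlgebraMap A) fun i j => by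
      show δ i (algebraMap A R (f j)) = _
      rw [hfg]
      exact hδ i j
  refine ⟨m, D, f, hfq, ?_, hD⟩
  rw [show (fun i => algebraMap A R (f i)) = g from funext hfg, hgen]

end Groth.Agent.NagJac3
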