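import Groth.Agent.S2460
import Groth.Agent.Lib.CohenAlg3.Exists
import Groth.Agent.Lib.H2Alg.PSHom

/-! # Presentations modulo the square of a prime -/

set_option autoImplicit false
set_option linter.style.haveILetI false
universe u

namespace Groth.Agent.NagJac3

open IsLocalRing MvPowerSeries H2Alg

/-- A complete local algebra is finite over power series modulo the square of a prime. -/
theorem exists_presentation {K A : Type u} [Field K] [CommRing A] [IsLocalRing A] [IsNoetherianRing A]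
    [IsAdicComplete (maximalIdeal A) A] [Algebra K A] [Module.Finite K (ResidueField A)] (P : Ideal A) [P.IsPrime] :
    ∃ (n : ℕ) (ψ : MvPowerSeries (Fin n) K →ₐ[K] A), (∀ c, c ≠ 0 → ψ c ∉ P) ∧
      ∃ (M : ℕ) (γ : Fin M → A), ∀ a, ∃ c : Fin M → MvPowerSeries (Fin n) K, a - ∑ l, ψ (c l) * γ l ∈ P ^ 2 := by
  classical
  haveI : IsLocalRing (A ⧸ P) := IsLocalRing.of_surjective' _ Ideal.Quotient.mk_surjective
  haveI := CohenAlg3.isAdicComplete_quotient P
  haveI hloc : IsLocalHom (Ideal.Quotient.mk P) := IsLocalHom.of_surjective _ Ideal.Quotient.mk_surjective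
  haveI : Module.Finite K (ResidueField (A ⧸ P)) := by
    let f : ResidueField A →ₐ[K] ResidueField (A ⧸ P) :=
      { ResidueField.map (Ideal.Quotient.mk P) with commutes' := fun r => rfl }
    refine Module.Finite.of_surjective f.toLinearMap fun y => ?_
    obtain ⟨y, rfl⟩ := residue_surjective y
    obtain ⟨y, rfl⟩ := Ideal.Quotient.mk_surjective y
    exact ⟨residue A y, rfl⟩
  obtain ⟨n, w, hwi, hwl, hwf⟩ := Groth.Agent.S2460.result (k₀ := K) (A := A ⧸ P)
  have hwX : ∀ i, w (X i) ∈ maximalIdeal (A ⧸ P) := fun i => by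
    rw [mem_maximalIdeal, mem_nonunits_iff]
    intro h
    haveI := hwl
    have h1 : IsUnit (X i : MvPowerSeries (Fin n) K) := isUnit_of_map_unit w.toRingHom (X i) h
    rw [isUnit_iff_constantCoeff, constantCoeff_X] at h1
    exact not_isUnit_zero h1
  choose z hz using fun i => Ideal.Quotient.mk_surjective (w (X i))
  obtain ⟨ψ, hψ⟩ := PSHom.exists_algHom (A := K) (maximalIdeal A) z fun i => by
    have h := hwX i
    rw [← hz, mem_maximalIdeal, mem_nonunits_iff] at h
    exact (mem_maximalIdeal _).2 fun hu => h (hu.map _)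
  have hcomp : (Ideal.Quotient.mkₐ K P).comp ψ = w :=
    PSHom.algHom_ext (maximalIdeal (A ⧸ P)) (fun i => by
      show Ideal.Quotient.mk P (ψ (X i)) ∈ _
      rw [hψ, hz]
      exact hwX i) fun i => by
      show Ideal.Quotient.mk P (ψ (X i)) = _
      rw [hψ, hz]
  have hmk : ∀ c, Ideal.Quotient.mk P (ψ c) = w c := fun c => AlgHom.congr_fun hcomp c
  refine ⟨n, ψ, fun c hc h => hc (hwi (by rw [← hmk, Ideal.Quotient.eq_zero_iff_mem.2 h, map_zero])), ?_⟩
  letI : Algebra (MvPowerSeries (Fin n) K) (A ⧸ P) := w.toRingHom.toAlgebra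
  haveI : Module.Finite (MvPowerSeries (Fin n) K) (A ⧸ P) := hwf
  obtain ⟨N, e, he⟩ := Module.Finite.exists_fin (R := MvPowerSeries (Fin n) K) (M := A ⧸ P)
  choose α hα using fun i => Ideal.Quotient.mk_surjective (e i)
  have hfin : ∀ a : A, ∃ c : Fin N → MvPowerSeries (Fin n) K, a - ∑ i, ψ (c i) * α i ∈ P := fun a => by
    obtain ⟨c, hc⟩ := (Submodule.mem_span_range_iff_exists_fun _).1 (he ▸ Submodule.mem_top : Ideal.Quotient.mk P a ∈ _)
    refine ⟨c, ?_⟩
    rw [← Ideal.Quotient.eq_zero_iff_mem, map_sub, map_sum, sub_eq_zero, ← hc]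
    exact Finset.sum_congr rfl fun i _ => by rw [map_mul, hmk, hα]; rfl
  obtain ⟨m, g, hg⟩ := Submodule.fg_iff_exists_fin_generating_family.1 (IsNoetherian.noetherian P)
  let σ := Fintype.equivFin (Fin N ⊕ Fin m × Fin N)
  let γ₀ : Fin N ⊕ Fin m × Fin N → A := Sum.elim α fun x => g x.1 * α x.2
  refine ⟨_, fun l => γ₀ (σ.symm l), fun a => ?_⟩
  obtain ⟨c, hc⟩ := hfin a
  obtain ⟨b, hb⟩ := (Submodule.mem_span_range_iff_exists_fun A).1 (hg.ge hc)
  choose c' hc' using fun j => hfin (b j)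
  let cc : Fin N ⊕ Fin m × Fin N → MvPowerSeries (Fin n) K := Sum.elim c fun x => c' x.1 x.2
  refine ⟨fun l => cc (σ.symm l), ?_⟩
  rw [σ.symm.sum_comp fun x => ψ (cc x) * γ₀ x, Fintype.sum_sum_type, Fintype.sum_prod_type]
  have h1 : a - ((∑ i, ψ (c i) * α i) + ∑ j, ∑ i, ψ (c' j i) * (g j * α i)) =
      ∑ j, (b j - ∑ i, ψ (c' j i) * α i) * g j := by
    rw [← sub_sub, ← hb, ← Finset.sum_sub_distrib]
    refine Finset.sum_congr rfl fun j _ => ?_
    rw [smul_eq_mul, sub_mul, Finset.sum_mul]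
    exact congrArg _ (Finset.sum_congr rfl fun i _ => by ring)
  simp only [cc, γ₀, Sum.elim_inl, Sum.elim_inr]
  rw [h1, pow_two]
  exact sum_mem fun j _ => Ideal.mul_mem_mul (hc' j) (hg ▸ Submodule.subset_span ⟨j, rfl⟩)

end Groth.Agent.NagJac3
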