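import Groth.Agent.Lib.NagJac3.Field
import Groth.Agent.Lib.NagJac3.Bounded
import Groth.Agent.Lib.NagJac3.Present
import Groth.Agent.Lib.CplDomain.DerivExtend
import Mathlib.RingTheory.LocalRing.ResidueField.Ideal
import Mathlib.FieldTheory.Perfect

/-! # Derivations of a complete algebra detect residual derivations at a prime -/

set_option autoImplicit false
set_option linter.style.haveILetI false
universe u

namespace Groth.Agent.NagJac3

open IsLocalRing MvPowerSeries CplDomain PBasis

variable {k K A : Type u} [Field k] [Field K] [Algebra k K] [CommRing A] [IsLocalRing A] [IsNoetherianRing A]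
  [IsAdicComplete (maximalIdeal A) A] [Algebra k A] [Algebra K A] [IsScalarTower k K A]
  [Module.Finite K (ResidueField A)]

/-- A derivation into the residue field kills the square of the maximal ideal. -/
theorem derivation_eq_zero_of_mem_sq {R : Type u} [CommRing R] [IsLocalRing R] (D : Derivation ℤ R (ResidueField R))
    (x : R) (hx : x ∈ maximalIdeal R ^ 2) : D x = 0 := by
  rw [pow_two] at hx
  refine Submodule.mul_induction_on hx (fun u hu v hv => ?_) fun u v hu hv => by rw [map_add, hu, hv, add_zero]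
  have hz : ∀ (w : R) (z : ResidueField R), w ∈ maximalIdeal R → w • z = 0 := fun w z hw => by
    rw [Algebra.smul_def, show algebraMap R (ResidueField R) w = 0 from (residue_eq_zero_iff w).2 hw, zero_mul]
  rw [D.leibniz, hz u _ hu, hz v _ hv, add_zero]

/-- A derivation killing a kernel descends along a surjection. -/
theorem exists_derivation_quotient {R R' L : Type u} [CommRing R] [CommRing R'] [CommRing L] (π : R →+* R')
    (hπ : Function.Surjective π) [Algebra R L] [Algebra R' L] (D : Derivation ℤ R L)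
    (hmap : ∀ x, algebraMap R' L (π x) = algebraMap R L x) (hD : ∀ x, π x = 0 → D x = 0) :
    ∃ D' : Derivation ℤ R' L, ∀ x, D' (π x) = D x := by
  choose sec hsec using id hπ
  have hwd : ∀ x, D (sec (π x)) = D x := fun x => by
    rw [← sub_eq_zero, ← map_sub]
    exact hD _ (by rw [map_sub, hsec, sub_self])
  refine ⟨Derivation.mk' (AddMonoidHom.mk' (fun x => D (sec x)) fun u v => ?_).toIntLinearMap fun u v => ?_, hwd⟩
  · obtain ⟨u, rfl⟩ := hπ u
    obtain ⟨v, rfl⟩ := hπ v
    rw [← map_add, hwd, hwd, hwd, map_add]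
  · obtain ⟨u, rfl⟩ := hπ u
    obtain ⟨v, rfl⟩ := hπ v
    show D (sec (π u * π v)) = π u • D (sec _) + π v • D (sec _)
    rw [← map_mul, hwd, D.leibniz, hwd, hwd, Algebra.smul_def, Algebra.smul_def, Algebra.smul_def, Algebra.smul_def,
      hmap, hmap]

/-- Derivations compose with compatible ring maps. -/
theorem exists_derivation_comp {B R L : Type u} [CommRing B] [CommRing R] [CommRing L] (α : B →+* R)
    [Algebra B L] [Algebra R L] (hα : ∀ x, algebraMap R L (α x) = algebraMap B L x) (δ : Derivation ℤ R L) :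
    ∃ d : Derivation ℤ B L, ∀ x, d x = δ (α x) :=
  ⟨Derivation.mk' (δ.toLinearMap.toAddMonoidHom.comp α.toAddMonoidHom).toIntLinearMap fun u v => by
    show δ (α (u * v)) = u • δ (α v) + v • δ (α u)
    rw [map_mul, δ.leibniz, Algebra.smul_def, Algebra.smul_def, Algebra.smul_def, Algebra.smul_def, hα, hα],
    fun x => rfl⟩

section Setup

variable {R L : Type u} [CommRing R] [Field L] [Algebra A L] [Algebra R L]
  {n : ℕ} (ψ : MvPowerSeries (Fin n) K →ₐ[K] A) (α : A →+* R) [Algebra (FractionRing (MvPowerSeries (Fin n) K)) R]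

omit [IsScalarTower k K A] [Module.Finite K (ResidueField A)] [Algebra k A] [Algebra k K] [IsNoetherianRing A]
  [IsAdicComplete (maximalIdeal A) A] [IsLocalRing A] in
/-- A derivation detecting an element in characteristic `p` and killing a finite stage. -/
theorem exists_derivation_killing_stage [Algebra k A] [Algebra k K] [IsScalarTower k K A] (p : ℕ) [Fact p.Prime]
    [CharP k p] [CharP K p] [Module.Finite (frobenius k p).fieldRange k] {ι : Type u} (δ : ι → Derivation ℤ K K)
    (hδk : ∀ i c, δ i (algebraMap k K c) = 0) (hδ : ∀ x, (∀ i, δ i x = 0) → x ∈ pField p k K)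
    (hπ : Function.Surjective (algebraMap R L))
    (hsq : ∀ a b : R, algebraMap R L a = 0 → algebraMap R L b = 0 → a * b = 0)
    (hψ : ∀ c, algebraMap (FractionRing (MvPowerSeries (Fin n) K)) R (algebraMap _ _ c) = α (ψ c))
    {M : ℕ} (β : Fin M → R) (hβ : Submodule.span (FractionRing (MvPowerSeries (Fin n) K)) (Set.range β) = ⊤)
    (δ₀ : Derivation ℤ R L) (hδ₀ : ∀ c : k, δ₀ (α (algebraMap k A c)) = 0) {x : R}
    (hx : algebraMap R L x = 0) (hx0 : δ₀ x ≠ 0) :
    ∃ (T : Finset ι) (δ' : Derivation ℤ R L), (∀ c ∈ killed (n := n) δ T, δ' (α (ψ c)) = 0) ∧ δ' x ≠ 0 := by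
  classical
  haveI : ExpChar k p := ExpChar.prime Fact.out
  let P := MvPowerSeries (Fin n) K
  let E := FractionRing P
  let κ : k →+* E := (algebraMap P E).comp ((MvPowerSeries.C).comp (algebraMap k K))
  haveI : CharP E p := charP_of_injective_ringHom κ.injective p
  obtain ⟨N, e, he⟩ := exists_pField_span p (k := k) (K := K)
  let F : Finset ι → Subfield E := fun T => Subfield.closure ((killed (n := n) δ T).map (algebraMap P E) : Set E)
  let E' : Subfield E := Subfield.closure (Set.range (fun z : E => z ^ p) ∪ Set.range κ)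
  have hpk : ∀ (T : Finset ι) (a : P), a ^ p ∈ killed δ T := fun T a => by
    haveI : CharP P p := charP_of_injective_ringHom (MvPowerSeries.C_injective (σ := Fin n) (R := K)) p
    exact ⟨fun j => derivation_pow_char p (MvPowerSeries.pderiv K j) a,
      fun i _ => derivation_pow_char p (coeffDer (δ i)) a⟩
  have hCk : ∀ (T : Finset ι) (c : k), MvPowerSeries.C (algebraMap k K c) ∈ killed (n := n) δ T := fun T c =>
    ⟨fun j => MvPowerSeries.pderiv_C, fun i _ => MvPowerSeries.ext fun m => by
      rw [coeff_coeffDer, map_zero, MvPowerSeries.coeff_C]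
      split_ifs
      · exact hδk i c
      · exact map_zero _⟩
  obtain ⟨T, δ', hδ', hδ'x⟩ := exists_derivation_stage (E := E) hπ hsq p F E'
    (fun {T T'} h => Subfield.closure_mono (by
      rintro _ ⟨a, ha, rfl⟩
      exact ⟨a, ⟨ha.1, fun i hi => ha.2 i (h hi)⟩, rfl⟩))
    (fun z hz => by
      obtain ⟨a, b, hb, rfl⟩ := IsFractionRing.div_surjective P z
      have hb0 : algebraMap P E b ≠ 0 := IsFractionRing.to_map_ne_zero_of_mem_nonZeroDivisors hb
      obtain ⟨g, hg⟩ := exists_expansion_of_killed p δ (fun j => algebraMap k K (e j))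
        (fun x hx => he x (hδ x hx)) (f := a * b ^ (p - 1)) fun T => by
        obtain ⟨u, hu, v, hv, h⟩ := Subfield.mem_closure_iff.mp (hz T)
        rw [Subring.closure_eq] at hu hv
        obtain ⟨a', ha', rfl⟩ := hu
        obtain ⟨b', hb', rfl⟩ := hv
        by_cases hb0' : b' = 0
        · rw [hb0', map_zero, div_zero, eq_comm, div_eq_zero_iff] at h
          rw [(injective_iff_map_eq_zero _).mp (IsFractionRing.injective P E) a (h.resolve_right hb0), zero_mul]
          exact zero_mem _
        rw [div_eq_div_iff ((map_ne_zero_iff _ (IsFractionRing.injective P E)).mpr hb0') hb0, ← map_mul, ← map_mul] at h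
        have hc : a * b ^ (p - 1) * b' = a' * b ^ p := by
          rw [mul_right_comm, ← IsFractionRing.injective P E h, mul_assoc, ← pow_succ',
            Nat.sub_add_cancel (Fact.out : p.Prime).one_le]
        refine ⟨fun j => ?_, fun i hi => ?_⟩
        · have h1 := congrArg (MvPowerSeries.pderiv K j) hc
          rw [Derivation.leibniz, Derivation.leibniz (MvPowerSeries.pderiv K j) a', hb'.1 j, ha'.1 j,
            (hpk T b).1 j, smul_zero, smul_zero, smul_zero, add_zero, zero_add, smul_eq_mul] at h1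
          exact (mul_eq_zero.mp h1).resolve_left hb0'
        · have h1 := congrArg (coeffDer (δ i)) hc
          rw [Derivation.leibniz, Derivation.leibniz (coeffDer (δ i)) a', hb'.2 i hi, ha'.2 i hi,
            (hpk T b).2 i hi, smul_zero, smul_zero, smul_zero, add_zero, zero_add, smul_eq_mul] at h1
          exact (mul_eq_zero.mp h1).resolve_left hb0'
      have h2 : algebraMap P E a / algebraMap P E b =
          algebraMap P E (a * b ^ (p - 1)) / algebraMap P E b ^ p := by
        rw [map_mul, map_pow, div_eq_div_iff hb0 (pow_ne_zero _ hb0), mul_assoc, ← pow_succ,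
          Nat.sub_add_cancel (Fact.out : p.Prime).one_le]
      rw [h2, hg, map_sum, Finset.sum_div]
      refine sum_mem fun j _ => ?_
      rw [map_mul, map_pow, mul_div_assoc, ← div_pow]
      exact mul_mem (Subfield.subset_closure (Or.inr ⟨e j, rfl⟩)) (Subfield.subset_closure (Or.inl ⟨_, rfl⟩)))
    (fun T => Subfield.closure_le.mpr (by
      rintro _ (⟨z, rfl⟩ | ⟨c, rfl⟩)
      · obtain ⟨a, b, -, rfl⟩ := IsFractionRing.div_surjective P z
        show (algebraMap P E a / algebraMap P E b) ^ p ∈ F T
        rw [div_pow, ← map_pow, ← map_pow]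
        exact div_mem (Subfield.subset_closure ⟨_, hpk T a, rfl⟩) (Subfield.subset_closure ⟨_, hpk T b, rfl⟩)
      · exact Subfield.subset_closure ⟨_, hCk T c, rfl⟩))
    (fun z => Subfield.subset_closure (Or.inl ⟨z, rfl⟩)) β hβ δ₀
    (fun z hz => by
      refine mem_constSubfield.1 ((Subfield.closure_le (t := constSubfield (algebraMap E R) δ₀)).mpr ?_ hz)
      haveI : Nontrivial R := (algebraMap R L).domain_nontrivial
      haveI : CharP R p := charP_of_injective_algebraMap (algebraMap E R).injective p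
      rintro _ (⟨z, rfl⟩ | ⟨c, rfl⟩)
      · show δ₀ (algebraMap E R (z ^ p)) = 0
        rw [map_pow, Derivation.leibniz_pow, ← Nat.cast_smul_eq_nsmul R, CharP.cast_eq_zero, zero_smul]
      · show δ₀ (algebraMap E R (algebraMap P E (MvPowerSeries.C (algebraMap k K c)))) = 0
        rw [hψ, show (MvPowerSeries.C (algebraMap k K c) : P) = algebraMap K P (algebraMap k K c) from by
          rw [MvPowerSeries.algebraMap_apply, Algebra.algebraMap_self_apply], ψ.commutes,
          ← IsScalarTower.algebraMap_apply]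
        exact hδ₀ c)
    hx hx0
  refine ⟨T, δ', fun c hc => ?_, hδ'x⟩
  rw [← hψ]
  exact hδ' _ (Subfield.subset_closure ⟨c, hc, rfl⟩)

end Setup

variable (hA : CAlgX.IsAdicFormallySmooth K A (maximalIdeal A)) (P : Ideal A) [P.IsPrime]

include hA in
/-- A derivation into the residue field at a prime yields a derivation of the ring. -/
theorem exists_derivation_residue (p : ℕ) [ExpChar k p] (hk : p = 1 ∨ Module.Finite (frobenius k p).fieldRange k)
    (δ₀ : Derivation k A P.ResidueField) {a : A} (ha : a ∈ P) (ha0 : δ₀ a ≠ 0) :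
    ∃ D : Derivation k A A, D a ∉ P := by
  classical
  haveI : IsNoetherianRing (Localization.AtPrime P) := IsLocalization.isNoetherianRing P.primeCompl _ inferInstance
  set Q := Localization.AtPrime P
  let I : Ideal Q := maximalIdeal Q ^ 2
  letI : Algebra (Q ⧸ I) P.ResidueField := (Ideal.Quotient.lift I (residue Q) fun x hx =>
    (residue_eq_zero_iff x).2 (Ideal.pow_le_self two_ne_zero hx)).toAlgebra
  let α : A →+* Q ⧸ I := (Ideal.Quotient.mk I).comp (algebraMap A Q)
  have hαL : ∀ x, algebraMap (Q ⧸ I) P.ResidueField (α x) = algebraMap A P.ResidueField x := fun x => rfl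
  have hπ : Function.Surjective (algebraMap (Q ⧸ I) P.ResidueField) := fun y => by
    obtain ⟨y, rfl⟩ := residue_surjective y
    exact ⟨Ideal.Quotient.mk I y, rfl⟩
  have hsq : ∀ u v : Q ⧸ I, algebraMap (Q ⧸ I) P.ResidueField u = 0 → algebraMap (Q ⧸ I) P.ResidueField v = 0 →
      u * v = 0 := fun u v hu hv => by
    obtain ⟨u, rfl⟩ := Ideal.Quotient.mk_surjective u
    obtain ⟨v, rfl⟩ := Ideal.Quotient.mk_surjective v
    rw [← map_mul, Ideal.Quotient.eq_zero_iff_mem]
    show u * v ∈ maximalIdeal Q ^ 2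
    rw [pow_two]
    exact Ideal.mul_mem_mul ((residue_eq_zero_iff u).1 hu) ((residue_eq_zero_iff v).1 hv)
  obtain ⟨D₀, hD₀⟩ := CplDomain.exists_derivation_localization P.primeCompl (R := Q) (δ₀.restrictScalars ℤ)
  obtain ⟨δ₁, hδ₁'⟩ := exists_derivation_quotient (Ideal.Quotient.mk I) Ideal.Quotient.mk_surjective D₀ (fun x => rfl)
    fun x hx => derivation_eq_zero_of_mem_sq D₀ x (Ideal.Quotient.eq_zero_iff_mem.1 hx)
  have hδ₁ : ∀ x, δ₁ (α x) = δ₀ x := fun x => (hδ₁' _).trans (hD₀ x)
  obtain ⟨n, ψ, hψ0, M, γ, hγ⟩ := exists_presentation (K := K) P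
  let g : MvPowerSeries (Fin n) K →+* Q ⧸ I := α.comp ψ.toRingHom
  have hu : ∀ c : nonZeroDivisors (MvPowerSeries (Fin n) K), IsUnit (g c) := fun c =>
    IsUnit.map (Ideal.Quotient.mk I) (IsLocalization.map_units Q (⟨ψ c, hψ0 c (nonZeroDivisors.coe_ne_zero c)⟩ : P.primeCompl))
  letI : Algebra (FractionRing (MvPowerSeries (Fin n) K)) (Q ⧸ I) := (IsLocalization.lift hu).toAlgebra
  have hψg : ∀ c, algebraMap (FractionRing (MvPowerSeries (Fin n) K)) (Q ⧸ I) (algebraMap _ _ c) = α (ψ c) :=
    fun c => IsLocalization.lift_eq hu c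
  have hαP : ∀ x ∈ P ^ 2, α x = 0 := fun x hx => by
    refine Ideal.Quotient.eq_zero_iff_mem.2 ?_
    show algebraMap A Q x ∈ maximalIdeal Q ^ 2
    rw [← Localization.AtPrime.map_eq_maximalIdeal, ← Ideal.map_pow]
    exact Ideal.mem_map_of_mem _ hx
  have hdec : ∀ x, ∃ c : Fin M → MvPowerSeries (Fin n) K, α x = ∑ l, α (ψ (c l) * γ l) := fun x => by
    obtain ⟨c, hc⟩ := hγ x
    refine ⟨c, ?_⟩
    rw [← map_sum, ← sub_eq_zero, ← map_sub]
    exact hαP _ hc
  have hβ : Submodule.span (FractionRing (MvPowerSeries (Fin n) K)) (Set.range (α ∘ γ)) = ⊤ :=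
    span_eq_top_of_fractions α γ (fun x => by
      obtain ⟨c, hc⟩ := hdec x
      rw [hc]
      refine sum_mem fun l _ => ?_
      rw [map_mul, ← hψg, ← Algebra.smul_def]
      exact Submodule.smul_mem _ _ (Submodule.subset_span ⟨l, rfl⟩)) fun r => by
      obtain ⟨r, rfl⟩ := Ideal.Quotient.mk_surjective r
      obtain ⟨⟨x, s⟩, hxs⟩ := IsLocalization.surj P.primeCompl r
      exact ⟨x, s, IsUnit.map (Ideal.Quotient.mk I) (IsLocalization.map_units Q s), by
        show Ideal.Quotient.mk I r * Ideal.Quotient.mk I (algebraMap A Q s) = _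
        rw [← map_mul, hxs]; rfl⟩
  have hax : algebraMap (Q ⧸ I) P.ResidueField (α a) = 0 := by
    rw [hαL]
    exact Ideal.algebraMap_residueField_eq_zero.2 ha
  have hker : RingHom.ker (algebraMap A P.ResidueField) = P := Ideal.ext fun x => Ideal.algebraMap_residueField_eq_zero
  have hfrac : ∀ z : P.ResidueField, ∃ x s : A, algebraMap A P.ResidueField s ≠ 0 ∧
      z * algebraMap A P.ResidueField s = algebraMap A P.ResidueField x := fun z => by
    obtain ⟨z, rfl⟩ := residue_surjective z
    obtain ⟨⟨x, s⟩, hxs⟩ := IsLocalization.surj P.primeCompl z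
    refine ⟨x, s, fun h => s.2 (Ideal.algebraMap_residueField_eq_zero.1 h), ?_⟩
    show residue Q z * residue Q (algebraMap A Q s) = residue Q (algebraMap A Q x)
    rw [← map_mul, hxs]
  suffices h : ∃ D : Derivation k A A, algebraMap A P.ResidueField (D a) ≠ 0 by
    obtain ⟨D, hD⟩ := h
    exact ⟨D, fun h => hD (Ideal.algebraMap_residueField_eq_zero.2 h)⟩
  rcases expChar_is_prime_or_one k p with hp | rfl
  · haveI : Fact p.Prime := ⟨hp⟩
    haveI : CharP k p := by
      rcases ‹ExpChar k p› with _ | hq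
      · exact absurd hp Nat.not_prime_one
      · assumption
    haveI : CharP K p := charP_of_injective_algebraMap (algebraMap k K).injective p
    haveI : Module.Finite (frobenius k p).fieldRange k := hk.resolve_left hp.ne_one
    obtain ⟨ι, δ, b, hδk, hδ, hb, hb', hgen, hfin⟩ := exists_derivations_over p (k := k) (K := K)
    obtain ⟨T, δ', hδ', hδ'a⟩ := exists_derivation_killing_stage ψ α p δ hδk hδ hπ hsq hψg (α ∘ γ) hβ δ₁
      (fun c => by rw [hδ₁]; exact δ₀.map_algebraMap c) hax (by rw [hδ₁]; exact ha0)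
    obtain ⟨d, hd⟩ := exists_derivation_comp α hαL δ'
    obtain ⟨M', G, hG⟩ := exists_killed_generators (n := n) δ p hfin T
    let σ := Fintype.equivFin (Fin M × Fin M')
    refine exists_derivation_of_bounded hA P hker hfrac d (fun l => ψ (G (σ.symm l).2) * γ (σ.symm l).1) (fun x => ?_)
      δ b T hδk hb hb' (hgen T) (fun x hx => ?_) (by rw [hd]; exact hδ'a)
    · obtain ⟨c, hc⟩ := hdec x
      choose c' hc' hcs using fun l => hG (c l)
      refine ⟨fun l => ψ (c' (σ.symm l).1 (σ.symm l).2), ?_⟩
      rw [σ.symm.sum_comp fun y => algebraMap A P.ResidueField (ψ (c' y.1 y.2)) * d (ψ (G y.2) * γ y.1),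
        Fintype.sum_prod_type, hd, hc, map_sum]
      refine Finset.sum_congr rfl fun l _ => ?_
      rw [← hd, ← hcs, map_sum, Finset.sum_mul, map_sum]
      refine Finset.sum_congr rfl fun j _ => ?_
      rw [map_mul ψ, mul_assoc, d.leibniz, hd (ψ (c' l j)), hδ' _ (hc' l j), smul_zero, add_zero, Algebra.smul_def]
    · rw [hd, ← ψ.commutes, MvPowerSeries.algebraMap_apply, Algebra.algebraMap_self_apply]
      refine hδ' _ ⟨fun j => MvPowerSeries.pderiv_C, fun i hi => MvPowerSeries.ext fun m => ?_⟩
      rw [coeff_coeffDer, map_zero, MvPowerSeries.coeff_C]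
      split_ifs
      · exact hx i hi
      · exact map_zero _
  · haveI : CharZero k := charZero_of_expChar_one' k
    haveI : CharZero K := (RingHom.charZero_iff (algebraMap k K).injective).1 inferInstance
    let E := FractionRing (MvPowerSeries (Fin n) K)
    haveI : CharZero E := (RingHom.charZero_iff ((algebraMap (MvPowerSeries (Fin n) K) E).comp
      (MvPowerSeries.C : K →+* MvPowerSeries (Fin n) K)).injective).1 inferInstance
    letI : Algebra E P.ResidueField := ((algebraMap (Q ⧸ I) P.ResidueField).comp (algebraMap E (Q ⧸ I))).toAlgebra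
    haveI : IsScalarTower E (Q ⧸ I) P.ResidueField := .of_algebraMap_eq fun _ => rfl
    haveI : Module.Finite E (Q ⧸ I) := ⟨Submodule.fg_def.2 ⟨_, Set.finite_range _, hβ⟩⟩
    haveI : Module.Finite E P.ResidueField :=
      Module.Finite.of_surjective (IsScalarTower.toAlgHom E (Q ⧸ I) P.ResidueField).toLinearMap hπ
    haveI : Algebra.IsSeparable E P.ResidueField := inferInstance
    have hne : α a ≠ 0 := fun h => ha0 (by rw [← hδ₁, h, map_zero])
    obtain ⟨δ', hδ', hδ'a⟩ := exists_derivation_separable (E := E) hπ hsq hax hne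
    obtain ⟨d, hd⟩ := exists_derivation_comp α hαL δ'
    have hdψ : ∀ c, d (ψ c) = 0 := fun c => by rw [hd, ← hψg]; exact hδ' _
    refine exists_derivation_of_bounded hA P hker hfrac d γ (fun x => ?_)
      (fun i : PEmpty.{u + 1} => i.elim) (fun i => i.elim) ∅ (fun i => i.elim) (fun i => i.elim) (fun i => i.elim)
      (fun W hW _ => eq_top_iff.2 fun x _ => hW x (by simp)) (fun x _ => by rw [← ψ.commutes]; exact hdψ _)
      (by rw [hd]; exact hδ'a)
    obtain ⟨c, hc⟩ := hdec x
    refine ⟨fun l => ψ (c l), ?_⟩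
    rw [hd, hc, map_sum]
    refine Finset.sum_congr rfl fun l _ => ?_
    rw [← hd, d.leibniz, hdψ, smul_zero, add_zero, Algebra.smul_def]

end Groth.Agent.NagJac3
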