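import Groth.Agent.Lib.CplDomain.Deriv
import Mathlib

/-! # Derivations of a field over a subfield with finite `p`-rank -/

set_option autoImplicit false
set_option linter.style.haveILetI false
universe u

namespace Groth.Agent.NagJac3

open EGA41 PBasis MvPowerSeries CplDomain

variable (p : ℕ) [Fact p.Prime] {k K : Type u} [Field k] [Field K] [Algebra k K] [CharP K p]

/-- Derivations over the base with common kernel the base adjoined the `p`-th powers. -/
theorem exists_derivations_over :
    ∃ (ι : Type u) (δ : ι → Derivation ℤ K K) (b : ι → K), (∀ i c, δ i (algebraMap k K c) = 0) ∧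
      (∀ x, (∀ i, δ i x = 0) → x ∈ pField p k K) ∧
      (∀ i, δ i (b i) = 1) ∧ (∀ i j, i ≠ j → δ i (b j) = 0) ∧
      (∀ T : Finset ι, ∀ (W : Subfield K), (∀ x, (∀ i ∈ T, δ i x = 0) → x ∈ W) → (∀ i ∈ T, b i ∈ W) → W = ⊤) ∧
      ∀ T : Finset ι, ∃ (m : ℕ) (e : Fin m → K), ∀ x : K, ∃ c : Fin m → K,
        (∀ j, ∀ i ∈ T, δ i (c j) = 0) ∧ ∑ j, c j * e j = x := by
  classical
  set L : Subfield K := pField p k K
  have hL : ∀ x : K, x ^ p ∈ L := pow_mem_pField p k K
  have h0 : LinearIndepOn K (fun z : K => KaehlerDifferential.D L K z) (∅ : Set K) := linearIndepOn_empty K _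
  let B := h0.extend (Set.subset_univ _)
  have hgen : ∀ x : K, x ∈ Algebra.adjoin L B := fun x => by
    have h1 : Submodule.span K ((fun z : K => KaehlerDifferential.D L K z) '' B) = ⊤ := by
      refine eq_top_iff.mpr ?_
      rw [← KaehlerDifferential.span_range_derivation, Submodule.span_le, ← Set.image_univ]
      exact h0.image_subset_span_image_extend (Set.subset_univ _)
    have h2 := (PBasis.span_D_eq_top_iff p L hL B).mp h1
    exact (PBasis.adjS_eq_adjoin p L hL B x).mp (h2 ▸ Subfield.mem_top x)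
  have hsep : ∀ a : B, (a : K) ∉ adjS L ((Subtype.val : B → K) '' {b | b ≠ a}) :=
    (PBasis.linearIndependent_D_iff p L hL (Subtype.val : B → K)).mp (h0.linearIndepOn_extend (Set.subset_univ _))
  choose d hd0 hd1 using fun b : B => exists_derivation_adjS p L hL (hsep b)
  have hne : ∀ a b : B, a ≠ b → d a (b : K) = 0 := fun a b h => hd0 a _ ⟨b, Ne.symm h, rfl⟩
  let kT : Finset B → Subfield K := fun T => adjS L (Subtype.val '' {b : B | b ∉ T})
  have hkill : ∀ T, ∀ c ∈ kT T, ∀ i ∈ T, d i c = 0 := fun T c hc i hi =>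
    D_eq_zero_of_mem_closure (d i) (by
      rintro _ ⟨b, hb, rfl⟩
      exact hne i b fun e => hb (e ▸ hi)) hc
  refine ⟨B, fun b => (d b).restrictScalars ℤ, Subtype.val,
    fun i c => (d i).map_algebraMap ⟨algebraMap k K c, (pPowerSubalgebra p k K).algebraMap_mem c⟩,
    fun x hx => ?_, hd1, fun i j h => hne i j h, fun T W hW hb => ?_, fun T => ?_⟩
  · by_contra hcon
    obtain ⟨D, hD⟩ := KaehlerSubfield.exists_derivation p L hL hcon
    have hspan : Submodule.span K (Set.range fun b : B => KaehlerDifferential.D L K (b : K)) = ⊤ := by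
      rw [show (Set.range fun b : B => KaehlerDifferential.D L K (b : K)) = KaehlerDifferential.D L K '' B by
        rw [Set.image_eq_range], span_D_eq_top_iff p L hL]
      exact eq_top_iff.mpr fun z _ => (adjS_eq_adjoin p L hL B z).mpr (hgen z)
    obtain ⟨c, hc⟩ := Finsupp.mem_span_range_iff_exists_finsupp.mp
      (hspan ▸ Submodule.mem_top : KaehlerDifferential.D L K x ∈ _)
    have hc0 : ∀ a, c a = 0 := fun a => by
      have h := congrArg (d a).liftKaehlerDifferential hc
      rw [map_finsuppSum, Derivation.liftKaehlerDifferential_comp_D, show d a x = 0 from hx a,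
        Finsupp.sum_eq_single a] at h
      · simpa [map_smul, hd1] using h
      · intro b _ hb
        rw [map_smul, Derivation.liftKaehlerDifferential_comp_D, hne a b (Ne.symm hb), smul_zero]
      · simp
    have h := congrArg D.liftKaehlerDifferential hc
    rw [Derivation.liftKaehlerDifferential_comp_D, hD, show c = 0 from Finsupp.ext hc0] at h
    simp at h
  · have hLW : L ≤ W := fun y hy => hW y fun i _ => (d i).map_algebraMap ⟨y, hy⟩
    refine eq_top_iff.2 fun x _ => ?_
    refine adjS_le hLW ?_ ((adjS_eq_adjoin p L hL B x).2 (hgen x))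
    intro z hz
    by_cases h : (⟨z, hz⟩ : B) ∈ T
    · exact hb _ h
    · exact hW z fun i hi => hne i ⟨z, hz⟩ fun e => h (e ▸ hi)
  · have htop : Algebra.adjoin (kT T) ((T.image Subtype.val : Finset K) : Set K) = ⊤ := by
      refine eq_top_iff.mpr fun x _ => ?_
      induction hgen x using Algebra.adjoin_induction with
      | mem z hz =>
        by_cases h : (⟨z, hz⟩ : B) ∈ T
        · exact Algebra.subset_adjoin (Finset.mem_coe.mpr (Finset.mem_image.mpr ⟨_, h, rfl⟩))
        · exact Subalgebra.algebraMap_mem _ (⟨z, subset_adjS L _ ⟨⟨z, hz⟩, h, rfl⟩⟩ : kT T)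
      | algebraMap r => exact Subalgebra.algebraMap_mem _ (⟨r, le_adjS L _ r.2⟩ : kT T)
      | add y z _ _ hy hz => exact add_mem (hy trivial) (hz trivial)
      | mul y z _ _ hy hz => exact mul_mem (hy trivial) (hz trivial)
    haveI : Module.Finite (kT T) K := ⟨by
      rw [← Algebra.top_toSubmodule, ← htop]
      exact fg_adjoin_of_finite (Finset.finite_toSet _) fun x _ =>
        KaehlerSubfield.isIntegral p (kT T) (fun y => le_adjS L _ (hL y)) x⟩
    obtain ⟨m, s, hs⟩ := Module.Finite.exists_fin (R := kT T) (M := K)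
    refine ⟨m, s, fun x => ?_⟩
    obtain ⟨c, hc⟩ := (Submodule.mem_span_range_iff_exists_fun (kT T)).mp (hs ▸ Submodule.mem_top : x ∈ _)
    exact ⟨fun j => (c j : K), fun j i hi => hkill T _ (c j).2 i hi, hc⟩

/-- Finitely many elements span `k(K^p)` over `K^p`. -/
theorem exists_pField_span [ExpChar k p] [Module.Finite (frobenius k p).fieldRange k] :
    ∃ (N : ℕ) (e : Fin N → k), ∀ x ∈ pField p k K, ∃ g : Fin N → K, x = ∑ j, algebraMap k K (e j) * g j ^ p := by
  classical
  obtain ⟨N, e, he⟩ := Module.Finite.exists_fin (R := (frobenius k p).fieldRange) (M := k)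
  haveI : ExpChar K p := ExpChar.prime Fact.out
  let S : AddSubmonoid K :=
    { carrier := {x | ∃ g : Fin N → K, x = ∑ j, algebraMap k K (e j) * g j ^ p}
      zero_mem' := ⟨0, by simp [zero_pow (Fact.out : p.Prime).ne_zero]⟩
      add_mem' := by
        rintro _ _ ⟨g, rfl⟩ ⟨g', rfl⟩
        exact ⟨g + g', by simp [add_pow_char, mul_add, Finset.sum_add_distrib]⟩ }
  have hpow : ∀ (c : k) (y : K), algebraMap k K c * y ^ p ∈ S := fun c y => by
    obtain ⟨l, hl⟩ := (Submodule.mem_span_range_iff_exists_fun _).mp (he ▸ Submodule.mem_top : c ∈ _)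
    choose r hr using fun j => (l j).2
    refine ⟨fun j => algebraMap k K (r j) * y, ?_⟩
    rw [← hl, map_sum, Finset.sum_mul]
    refine Finset.sum_congr rfl fun j _ => ?_
    rw [Subfield.smul_def, smul_eq_mul, map_mul, ← hr j, frobenius_def, map_pow]
    ring
  have hmul : ∀ x ∈ S, ∀ y ∈ S, x * y ∈ S := by
    rintro _ ⟨g, rfl⟩ _ ⟨g', rfl⟩
    rw [Finset.sum_mul]
    refine sum_mem fun i _ => ?_
    rw [Finset.mul_sum]
    refine sum_mem fun j _ => ?_
    rw [show algebraMap k K (e i) * g i ^ p * (algebraMap k K (e j) * g' j ^ p) =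
      algebraMap k K (e i * e j) * (g i * g' j) ^ p by rw [map_mul, mul_pow]; ring]
    exact hpow _ _
  refine ⟨N, e, fun x hx => ?_⟩
  change x ∈ S
  induction hx using Algebra.adjoin_induction with
  | mem w hw => obtain ⟨y, rfl⟩ := hw; simpa using hpow 1 y
  | algebraMap r => simpa using hpow r 1
  | add u v _ _ hu hv => exact add_mem hu hv
  | mul u v _ _ hu hv => exact hmul u hu v hv

/-- The common kernel on power series consists of combinations of `p`-th powers. -/
theorem exists_expansion_of_killed {n N : ℕ} {ι : Type u} (δ : ι → Derivation ℤ K K) (e : Fin N → K)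
    (hδ : ∀ x : K, (∀ i, δ i x = 0) → ∃ g : Fin N → K, x = ∑ j, e j * g j ^ p)
    {f : MvPowerSeries (Fin n) K} (hf : ∀ T, f ∈ killed δ T) :
    ∃ g : Fin N → MvPowerSeries (Fin n) K, f = ∑ j, MvPowerSeries.C (e j) * g j ^ p := by
  classical
  haveI : ExpChar K p := ExpChar.prime Fact.out
  have hp0 : p ≠ 0 := (Fact.out : p.Prime).ne_zero
  choose r hr using fun m : Fin n →₀ ℕ => hδ (coeff (p • m) f) fun i => by
    rw [← coeff_coeffDer, (hf {i}).2 i (Finset.mem_singleton_self i), map_zero]
  let g : Fin N → MvPowerSeries (Fin n) K := fun j m => r m j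
  have hgc : ∀ j m, coeff m (g j) = r m j := fun _ _ => rfl
  refine ⟨g, MvPowerSeries.ext fun m => ?_⟩
  rw [map_sum]
  simp only [coeff_C_mul, ← MvPowerSeries.map_frobenius_expand p hp0, MvPowerSeries.coeff_map]
  by_cases h : ∀ i, p ∣ m i
  · choose q hq using h
    obtain rfl : m = p • Finsupp.equivFunOnFinite.symm q := Finsupp.ext fun i => by simp [hq i]
    simp only [MvPowerSeries.coeff_expand_smul, hgc, frobenius_def]
    exact hr _
  · push Not at h
    obtain ⟨i, hi⟩ := h
    rw [coeff_eq_zero_of_pderiv p (hf ∅).1 m i hi]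
    simp [MvPowerSeries.coeff_expand_of_not_dvd p hp0 _ hi]

end Groth.Agent.NagJac3
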