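import Groth.Agent.Lib.NagJac3.Criterion

/-! # Spreading equalities of localized ideals -/

set_option autoImplicit false
universe u

namespace Groth.Agent.NagJac3

/-- An equality of finitely generated ideals at a prime holds after inverting one element. -/
theorem exists_mul_mem_of_map_eq {A : Type u} [CommRing A] [IsNoetherianRing A] (q P : Ideal A) [P.IsPrime]
    (S : Set A) (h : q.map (algebraMap A (Localization.AtPrime P)) = (Ideal.span S).map (algebraMap A (Localization.AtPrime P))) :
    ∃ g, g ∉ P ∧ ∀ x ∈ q, g * x ∈ Ideal.span S := by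
  classical
  obtain ⟨F, hF⟩ := IsNoetherian.noetherian q
  have h1 : ∀ x ∈ F, ∃ g, g ∉ P ∧ g * x ∈ Ideal.span S := fun x hx => by
    have : algebraMap A (Localization.AtPrime P) x ∈ (Ideal.span S).map (algebraMap A (Localization.AtPrime P)) :=
      h ▸ Ideal.mem_map_of_mem _ (hF ▸ Submodule.subset_span hx)
    obtain ⟨g, hg, hgx⟩ := (IsLocalization.algebraMap_mem_map_algebraMap_iff P.primeCompl _ _ _).1 this
    exact ⟨g, hg, hgx⟩
  choose g hg hgx using h1
  refine ⟨∏ x ∈ F.attach, g x.1 x.2, fun h => ?_, fun x hx => ?_⟩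
  · obtain ⟨⟨x, hx⟩, -, hxP⟩ := Ideal.IsPrime.prod_mem_iff.1 h
    exact hg x hx hxP
  · rw [← hF] at hx
    induction hx using Submodule.span_induction with
    | mem y hy =>
      rw [← Finset.mul_prod_erase _ _ (Finset.mem_attach F ⟨y, hy⟩), mul_comm (g y hy), mul_assoc]
      exact Ideal.mul_mem_left _ _ (hgx y hy)
    | zero => simp
    | add _ _ _ _ h1 h2 => rw [mul_add]; exact add_mem h1 h2
    | smul c _ _ h1 => rw [smul_eq_mul, mul_left_comm]; exact Ideal.mul_mem_left _ _ h1

/-- An equality after inverting an element holds at primes not containing it. -/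
theorem map_eq_span_of_mul_mem {A : Type u} [CommRing A] (q P : Ideal A) [P.IsPrime] {m : ℕ} (f : Fin m → A)
    (hf : ∀ i, f i ∈ q) {g : A} (hg : ∀ x ∈ q, g * x ∈ Ideal.span (Set.range f)) (hgP : g ∉ P) :
    q.map (algebraMap A (Localization.AtPrime P)) =
      Ideal.span (Set.range fun i => algebraMap A (Localization.AtPrime P) (f i)) := by
  refine le_antisymm (Ideal.map_le_iff_le_comap.2 fun x hx => ?_) (Ideal.span_le.2 ?_)
  · have h := Ideal.mem_map_of_mem (algebraMap A (Localization.AtPrime P)) (hg x hx)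
    rw [Ideal.map_span, map_mul, ← Set.range_comp] at h
    show algebraMap A (Localization.AtPrime P) x ∈ Ideal.span (Set.range fun i => algebraMap A (Localization.AtPrime P) (f i))
    exact (Ideal.unit_mul_mem_iff_mem _ (IsLocalization.map_units (Localization.AtPrime P) (⟨g, hgP⟩ : P.primeCompl))).1 h
  · rintro _ ⟨i, rfl⟩
    exact Ideal.mem_map_of_mem _ (hf i)

end Groth.Agent.NagJac3
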