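import Mathlib.LinearAlgebra.LinearIndependent.Lemmas
import Mathlib.LinearAlgebra.Dimension.StrongRankCondition
import Mathlib.RingTheory.Ideal.Span
import Mathlib.Algebra.Field.Subfield.Basic
import Mathlib.RingTheory.AlgebraTower

/-! # Linear independence over an intersection of subfields -/

set_option autoImplicit false
set_option linter.style.haveILetI false
universe u

namespace Groth.Agent.NagJac3

variable {E : Type u} [Field E] {ι : Type u} (F : Finset ι → Subfield E) (E' : Subfield E)

theorem exists_linearIndependent_stage (hmono : ∀ {T T' : Finset ι}, T ⊆ T' → F T' ≤ F T)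
    (hinter : ∀ z, (∀ T, z ∈ F T) → z ∈ E') {M : Type u} [AddCommGroup M] [Module E M] :
    ∀ {n : ℕ} (v : Fin n → M), LinearIndependent E' v → ∃ T, ∀ T', T ⊆ T' → LinearIndependent (F T') v := by
  classical
  intro n
  induction n with
  | zero => exact fun v _ => ⟨∅, fun T' _ => linearIndependent_empty_type⟩
  | succ n ih =>
    intro v hv
    rw [linearIndependent_finSucc] at hv
    obtain ⟨T₀, hT₀⟩ := ih (Fin.tail v) hv.1
    by_contra hcon
    push Not at hcon
    have hrel : ∀ T', T₀ ⊆ T' → ∃ c : Fin n → E, (∀ i, c i ∈ F T') ∧ ∑ i, c i • Fin.tail v i = v 0 := by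
      intro T' hT'
      obtain ⟨T'', hsub, hdep⟩ := hcon T'
      rw [linearIndependent_finSucc, not_and_not_right] at hdep
      obtain ⟨c, hc⟩ := (Submodule.mem_span_range_iff_exists_fun _).1 (hdep (hT₀ T'' (hT'.trans hsub)))
      exact ⟨fun i => (c i : E), fun i => hmono hsub (c i).2, hc⟩
    obtain ⟨c, hc, hsum⟩ := hrel T₀ le_rfl
    have hall : ∀ i, c i ∈ E' := fun i => hinter _ fun T => by
      obtain ⟨c', hc', hsum'⟩ := hrel (T ∪ T₀) Finset.subset_union_right
      have h := Fintype.linearIndependent_iff.1 (hT₀ T₀ le_rfl)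
        (fun j => ⟨c j - c' j, sub_mem (hc j) (hmono Finset.subset_union_right (hc' j))⟩) (by
          simp only [Subfield.smul_def, sub_smul, Finset.sum_sub_distrib, hsum, hsum', sub_self]) i
      have h' : c i - c' i = 0 := congrArg Subtype.val h
      rw [sub_eq_zero.1 h']
      exact hmono Finset.subset_union_left (hc' i)
    refine hv.2 ((Submodule.mem_span_range_iff_exists_fun _).2 ⟨fun i => ⟨c i, hall i⟩, ?_⟩)
    simpa [Subfield.smul_def] using hsum

/-- At some stage, the elements of a span vanishing in a field come from the intersection. -/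
theorem exists_stage (hmono : ∀ {T T' : Finset ι}, T ⊆ T' → F T' ≤ F T)
    (hinter : ∀ z, (∀ T, z ∈ F T) → z ∈ E') (hle : ∀ T, E' ≤ F T) {R L : Type u} [CommRing R] [Algebra E R]
    [Field L] [Algebra E L] (π : R →ₐ[E] L) {M : ℕ} (w : Fin M → R) :
    ∃ (T : Finset ι) (Z : Set R), (∀ z ∈ Z, π z = 0 ∧ z ∈ Submodule.span E' (Set.range w)) ∧
      ∀ x ∈ Submodule.span (F T) (Set.range w), π x = 0 → x ∈ Ideal.span Z := by
  classical
  let a : Fin M → L := fun l => π (w l)
  haveI : Module.Finite E' (Submodule.span E' (Set.range a)) := Module.Finite.span_of_finite _ (Set.finite_range _)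
  obtain ⟨v, hv, hvspan, hvli⟩ := Submodule.exists_fun_fin_finrank_span_eq E' (Set.range a)
  choose s hs using hv
  have hlin : ∀ l, ∃ c : _ → E', ∑ j, c j • v j = a l := fun l =>
    (Submodule.mem_span_range_iff_exists_fun _).1 (hvspan.ge (Submodule.subset_span ⟨l, rfl⟩))
  choose c hc using hlin
  obtain ⟨T, hT⟩ := exists_linearIndependent_stage F E' hmono hinter v hvli
  let z : Fin M → R := fun l => w l - ∑ j, c l j • w (s j)
  refine ⟨T, Set.range z, ?_, fun x hx hπx => ?_⟩
  · rintro _ ⟨l, rfl⟩
    refine ⟨?_, sub_mem (Submodule.subset_span ⟨l, rfl⟩)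
      (sum_mem fun j _ => Submodule.smul_mem _ _ (Submodule.subset_span ⟨_, rfl⟩))⟩
    simp only [z, map_sub, map_sum, Subfield.smul_def, map_smul]
    rw [sub_eq_zero]
    refine (hc l).symm.trans (Finset.sum_congr rfl fun j _ => ?_)
    rw [Subfield.smul_def, ← hs j]
  · obtain ⟨d, rfl⟩ := (Submodule.mem_span_range_iff_exists_fun _).1 hx
    have hdecomp : ∑ l, d l • w l =
        ∑ l, (d l : E) • z l + ∑ j, (∑ l, (d l : E) * (c l j : E)) • w (s j) := by
      simp only [z, smul_sub, Finset.sum_sub_distrib, Finset.smul_sum, Subfield.smul_def, smul_smul, Finset.sum_smul]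
      rw [Finset.sum_comm (f := fun j l => ((d l : E) * (c l j : E)) • w (s j)), sub_add_cancel]
    have hz : ∀ l, π (z l) = 0 := fun l => by
      simp only [z, map_sub, map_sum, Subfield.smul_def, map_smul]
      rw [sub_eq_zero]
      refine (hc l).symm.trans (Finset.sum_congr rfl fun j _ => ?_)
      rw [Subfield.smul_def, ← hs j]
    rw [hdecomp, map_add, map_sum, map_sum] at hπx
    simp only [map_smul, hz, smul_zero, Finset.sum_const_zero, zero_add] at hπx
    have hco := Fintype.linearIndependent_iff.1 (hT T le_rfl)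
      (fun j => ⟨∑ l, (d l : E) * (c l j : E), sum_mem fun l _ => mul_mem (d l).2 (hle T (c l j).2)⟩) (by
        refine Eq.trans (Finset.sum_congr rfl fun j _ => ?_) hπx
        rw [Subfield.smul_def, ← hs j])
    rw [hdecomp]
    refine add_mem (sum_mem fun l _ => ?_) (sum_mem fun j _ => ?_)
    · rw [Algebra.smul_def]
      exact Ideal.mul_mem_left _ _ (Ideal.subset_span ⟨l, rfl⟩)
    · have h0 : ∑ l, (d l : E) * (c l j : E) = 0 := congrArg Subtype.val (hco j)
      rw [h0, zero_smul]
      exact zero_mem _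

end Groth.Agent.NagJac3
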